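import Groth.Agent.ResDesc.CartierFam
import Groth.Agent.ModDesc.Fam
import Groth.Agent.KunnAD.PairSec
import Groth.Agent.DQCoh.Tensor
import Groth.Agent.LocFree.Props
import Groth.Agent.QC.Localisation

/-!
Sections over a quasi-compact open extend to maps out of tensor powers of a finitely presented
module with a cosection whose nonvanishing locus lies in the open.
-/

set_option autoImplicit false
set_option backward.isDefEq.respectTransparency false
set_option linter.style.haveILetI false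

universe u

open CategoryTheory CategoryTheory.Limits AlgebraicGeometry TopologicalSpace Opposite
open Groth.Agent.QC (res resO res_res res_self res_smul resO_resO app_res section_eq_of_locally)
open scoped TensorProduct

noncomputable section

namespace Groth.Agent.ResExtend

variable {X : Scheme.{u}} {J : X.Modules} (σ : J ⟶ Coh.structureModule X)

/-- the value of a cosection, as a linear map into the ring -/
def sev {A : X.Modules} (φ : A ⟶ Coh.structureModule X) (V : X.Opens) : Γ(A, V) →ₗ[Γ(X, V)] Γ(X, V) where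
  toFun t := φ.app V t
  map_add' := map_add _
  map_smul' := Scheme.Modules.Hom.app_smul _

theorem sev_res {A : X.Modules} (φ : A ⟶ Coh.structureModule X) {V W : X.Opens} (h : W ≤ V) (t : Γ(A, V)) :
    resO X h (sev φ V t) = sev φ W (res A h t) :=
  app_res φ h t

/-- contracting the last factor -/
def cstep (n : ℕ) : CohB1.tensorPow J (n + 1) ⟶ CohB1.tensorPow J n :=
  ((DCoh.tensorBi (X := X)).obj (CohB1.tensorPow J n)).map σ ≫ (SecTwist.unitorR _).hom

/-- contracting the last `m` factors -/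
def cmap (n : ℕ) : (m : ℕ) → (CohB1.tensorPow J (n + m) ⟶ CohB1.tensorPow J n)
  | 0 => 𝟙 _
  | m + 1 => cstep σ (n + m) ≫ cmap n m

/-- powers of a cosection -/
def spow : (n : ℕ) → (CohB1.tensorPow J n ⟶ Coh.structureModule X)
  | 0 => 𝟙 _
  | n + 1 => cstep σ n ≫ spow n

theorem cstep_tm (n : ℕ) {V : X.Opens} (t : Γ(CohB1.tensorPow J n, V)) (j : Γ(J, V)) :
    (cstep σ n).app V (TMul.tm t j) = (sev σ V j) • t := by
  change (SecTwist.unitorR (CohB1.tensorPow J n)).hom.app V
    ((((DCoh.tensorBi (X := X)).obj (CohB1.tensorPow J n)).map σ).app V (TMul.tm t j)) = _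
  exact (congrArg _ (W7Hull.map_tm (CohB1.tensorPow J n) σ t j)).trans
    (ResDesc.unitorR_tm _ t (sev σ V j))

theorem cmap_spow (n : ℕ) : ∀ m : ℕ, cmap σ n m ≫ spow σ n = spow σ (n + m)
  | 0 => Category.id_comp _
  | m + 1 => by
    rw [cmap, Category.assoc, cmap_spow n m]
    rfl

/-- sections of a morphism, linearly -/
def appLin {A B : X.Modules} (φ : A ⟶ B) (V : X.Opens) : Γ(A, V) →ₗ[Γ(X, V)] Γ(B, V) where
  toFun t := φ.app V t
  map_add' := map_add _
  map_smul' := Scheme.Modules.Hom.app_smul _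

/-- the values of a cosection -/
def idl (V : X.Opens) : Ideal Γ(X, V) := LinearMap.range (sev σ V)

theorem qcoh_pow (hJ : Coh.IsQCoh J) : ∀ n : ℕ, Coh.IsQCoh (CohB1.tensorPow J n)
  | 0 => isFinLocFree_qcoh
  | n + 1 => DQCoh.isQCoh_tensor (qcoh_pow hJ n) hJ
where
  isFinLocFree_qcoh : Coh.IsQCoh (Coh.structureModule X) :=
    (SheafOfModules.isQuasicoherent X.ringCatSheaf).prop_of_iso
      (coproductUniqueIso fun _ : PUnit.{u + 1} => Coh.structureModule X)
      (inferInstance : (SheafOfModules.free (R := X.ringCatSheaf) PUnit.{u + 1}).IsQuasicoherent)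

/-- sections of the tensor product over an affine open, linearly -/
def ttEquiv {A B : X.Modules} (hA : Coh.IsQCoh A) (hB : Coh.IsQCoh B) {V : X.Opens} (hV : IsAffineOpen V) :
    (Γ(A, V) ⊗[Γ(X, V)] Γ(B, V)) ≃ₗ[Γ(X, V)] Γ(CohB1.tensorMod A B, V) :=
  LinearEquiv.ofBijective
    { toFun := TMul.tt A B V, map_add' := map_add _, map_smul' := fun r p => TMul.tt_smul r p }
    (KunnAD.bijective_tt hV hA hB)

theorem fp_tensor {R : Type u} [CommRing R] (A B : Type u) [AddCommGroup A] [Module R A] [AddCommGroup B]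
    [Module R B] [Module.FinitePresentation R A] [Module.FinitePresentation R B] :
    Module.FinitePresentation R (A ⊗[R] B) := by
  obtain ⟨n, f, hf⟩ := Module.Finite.exists_fin' R A
  haveI : Module.FinitePresentation R ((Fin n → R) ⊗[R] B) :=
    Module.FinitePresentation.of_equiv
      ((TensorProduct.comm R _ _).trans (TensorProduct.piScalarRight R R B (Fin n))).symm
  refine Module.finitePresentation_of_surjective (f.rTensor B) (LinearMap.rTensor_surjective B hf) ?_
  have h : Function.Exact ((LinearMap.ker f).subtype.rTensor B) (f.rTensor B) :=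
    rTensor_exact B f.exact_subtype_ker_map hf
  rw [LinearMap.exact_iff] at h
  rw [h]
  haveI : Module.Finite R (LinearMap.ker f) := .of_fg (Module.FinitePresentation.fg_ker f hf)
  exact Submodule.fg_range _

theorem fp_sections (hJ : Coh.IsQCoh J) (hJ' : CohB1.IsFP J) {V : X.Opens} (hV : IsAffineOpen V) :
    ∀ n : ℕ, Module.FinitePresentation Γ(X, V) Γ(CohB1.tensorPow J n, V)
  | 0 => Module.finitePresentation_of_projective Γ(X, V) Γ(X, V)
  | n + 1 => by
    haveI := fp_sections hJ hJ' hV n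
    haveI := LocFree.finitePresentation_sections_of_isFP hJ hJ' hV
    haveI := fp_tensor (R := Γ(X, V)) Γ(CohB1.tensorPow J n, V) Γ(J, V)
    exact Module.FinitePresentation.of_equiv (ttEquiv (qcoh_pow hJ n) hJ hV)

theorem idl_fg (hJ : Coh.IsQCoh J) (hJ' : CohB1.IsFP J) {V : X.Opens} (hV : IsAffineOpen V) : (idl σ V).FG := by
  haveI := LocFree.finitePresentation_sections_of_isFP hJ hJ' hV
  exact Submodule.fg_range _

theorem spow_mem (hJ : Coh.IsQCoh J) {V : X.Opens} (hV : IsAffineOpen V) :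
    ∀ (n : ℕ) (t : Γ(CohB1.tensorPow J n, V)), (sev (spow σ n) V t) ∈ idl σ V ^ n
  | 0, t => by rw [pow_zero, Ideal.one_eq_top]; trivial
  | n + 1, t => by
    obtain ⟨p, rfl⟩ := (ttEquiv (qcoh_pow hJ n) hJ hV).surjective t
    change sev (spow σ (n + 1)) V (ttEquiv (qcoh_pow hJ n) hJ hV p) ∈ _
    induction p using TensorProduct.induction_on with
    | zero => simp
    | add a b ha hb => rw [map_add, map_add]; exact Ideal.add_mem _ ha hb
    | tmul t j =>
      change sev (spow σ n) V ((cstep σ n).app V (TMul.tm t j)) ∈ _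
      rw [cstep_tm, map_smul, pow_succ', smul_eq_mul]
      exact Ideal.mul_mem_mul ⟨j, rfl⟩ (spow_mem hJ hV n t)

theorem cmap_kill (hJ : Coh.IsQCoh J) {V : X.Opens} (hV : IsAffineOpen V) {N : Type u} [AddCommGroup N]
    [Module Γ(X, V) N] (n : ℕ) : ∀ (m : ℕ) (L : Γ(CohB1.tensorPow J n, V) →ₗ[Γ(X, V)] N),
      (∀ a ∈ idl σ V ^ m, ∀ t, a • L t = 0) → ∀ t, L ((cmap σ n m).app V t) = 0
  | 0, L, h, t => by
    have := h 1 (by rw [pow_zero, Ideal.one_eq_top]; trivial) ((cmap σ n 0).app V t)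
    rwa [one_smul] at this
  | m + 1, L, h, t => by
    obtain ⟨p, rfl⟩ := (ttEquiv (qcoh_pow hJ (n + m)) hJ hV).surjective t
    change (L.comp (appLin (cmap σ n (m + 1)) V)) (ttEquiv (qcoh_pow hJ (n + m)) hJ hV p) = 0
    induction p using TensorProduct.induction_on with
    | zero => simp
    | add a b ha hb => rw [map_add, map_add, ha, hb, add_zero]
    | tmul t j =>
      change L ((cmap σ n m).app V ((cstep σ (n + m)).app V (TMul.tm t j))) = 0
      rw [cstep_tm, Scheme.Modules.Hom.app_smul, map_smul]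
      refine cmap_kill hJ hV n m ((sev σ V j) • L) (fun a ha t => ?_) t
      rw [LinearMap.smul_apply, smul_smul]
      exact h _ (by rw [pow_succ]; exact Ideal.mul_mem_mul ha ⟨j, rfl⟩) t

variable {U : X.Opens} (hD : ∀ (V : X.Opens) (j : Γ(J, V)), X.basicOpen (sev σ V j) ≤ U)
include hD

variable {M : X.Modules} (hM : Coh.IsQCoh M)
include hM

/-- Sections vanishing on the open are killed by a power of the values. -/
theorem exists_kill (hJ : Coh.IsQCoh J) (hJ' : CohB1.IsFP J) {V : X.Opens} (hV : IsAffineOpen V)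
    (x : Γ(M, V)) (hx : res M (inf_le_left : V ⊓ U ≤ V) x = 0) : ∃ m : ℕ, ∀ a ∈ idl σ V ^ m, a • x = 0 := by
  haveI : M.IsQuasicoherent := hM
  have hle : idl σ V ≤ Ideal.radical (R := Γ(X, V)) (LinearMap.ker (LinearMap.toSpanSingleton Γ(X, V) Γ(M, V) x)) := by
    rintro g ⟨j, rfl⟩
    obtain ⟨n, hn⟩ := (QC.isLoc_of_isQCoh hV (M := M)).exists_pow_smul_eq_zero (sev σ V j) x (by
      rw [← res_res M (le_inf (X.basicOpen_le _) (hD V j)) inf_le_left, hx, map_zero])
    exact ⟨n, hn⟩
  obtain ⟨m, hm⟩ := Ideal.exists_pow_le_of_le_radical_of_fg hle (idl_fg σ hJ hJ' hV)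
  exact ⟨m, fun a ha => hm ha⟩

theorem exists_kill_finset (hJ : Coh.IsQCoh J) (hJ' : CohB1.IsFP J) {V : X.Opens} (hV : IsAffineOpen V)
    (S : Finset Γ(M, V)) (hS : ∀ x ∈ S, res M (inf_le_left : V ⊓ U ≤ V) x = 0) :
    ∃ m : ℕ, ∀ a ∈ idl σ V ^ m, ∀ x ∈ S, a • x = 0 := by
  choose m hm using fun x : S => exists_kill σ hD hM hJ hJ' hV x.1 (hS x.1 x.2)
  refine ⟨Finset.univ.sup m, fun a ha x hx => hm ⟨x, hx⟩ a ?_⟩
  exact Ideal.pow_le_pow_right (Finset.le_sup (Finset.mem_univ _)) ha

variable [QuasiSeparatedSpace X] (hU : IsCompact (U : Set X)) (s : Γ(M, U))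
include hU

/-- Multiples of the section by a power of the values extend over an affine open. -/
theorem exists_extend_scalar (hJ : Coh.IsQCoh J) (hJ' : CohB1.IsFP J) {V : X.Opens} (hV : IsAffineOpen V) :
    ∃ m : ℕ, ∀ a ∈ idl σ V ^ m, ∃ y : Γ(M, V), res M (inf_le_left : V ⊓ U ≤ V) y =
      resO X (inf_le_left : V ⊓ U ≤ V) a • res M (inf_le_right : V ⊓ U ≤ U) s := by
  haveI : M.IsQuasicoherent := hM
  let A : Ideal Γ(X, V) :=
    { carrier := {a | ∃ y : Γ(M, V), res M (inf_le_left : V ⊓ U ≤ V) y =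
        resO X (inf_le_left : V ⊓ U ≤ V) a • res M (inf_le_right : V ⊓ U ≤ U) s}
      add_mem' := fun {a b} ⟨y, hy⟩ ⟨z, hz⟩ => ⟨y + z, by rw [map_add, hy, hz, map_add, add_smul]⟩
      zero_mem' := ⟨0, by rw [map_zero, map_zero, zero_smul]⟩
      smul_mem' := fun c a ⟨y, hy⟩ => ⟨c • y, by rw [res_smul, hy, smul_eq_mul, map_mul, mul_smul]⟩ }
  have hle : idl σ V ≤ A.radical := by
    rintro _ ⟨j, rfl⟩
    change (sev σ V j) ∈ A.radical
    have hg : X.basicOpen (sev σ V j) ≤ V ⊓ U := le_inf (X.basicOpen_le _) (hD V j)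
    generalize (sev σ V j) = g at hg
    obtain ⟨n, y, hy⟩ := (QC.isLoc_of_isQCoh hV (M := M)).exists_extend g
      (res M (hg.trans inf_le_right) s)
    let g' : Γ(X, V ⊓ U) := resO X inf_le_left g
    have hW : IsCompact ((V ⊓ U : X.Opens) : Set X) := hV.isCompact.inter_of_isOpen hU V.2 U.2
    obtain ⟨c, hc⟩ := QC.exists_pow_smul_eq_zero_of_isCompact hW g'
      (res M (inf_le_left : V ⊓ U ≤ V) y - g' ^ n • res M (inf_le_right : V ⊓ U ≤ U) s) (by
        have hb : X.basicOpen g' ≤ X.basicOpen g := QC.basicOpen_resO_le inf_le_left g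
        have h2 := congrArg (res M hb) hy
        rw [res_res, res_smul, map_pow, resO_resO, res_res] at h2
        rw [map_sub, res_res, res_smul, map_pow, resO_resO, res_res, h2, sub_self])
    refine ⟨c + n, g ^ c • y, ?_⟩
    rw [res_smul, map_pow, map_pow, pow_add, mul_smul, ← sub_eq_zero, ← smul_sub]
    exact hc
  obtain ⟨m, hm⟩ := Ideal.exists_pow_le_of_le_radical_of_fg hle (idl_fg σ hJ hJ' hV)
  exact ⟨m, fun a ha => hm ha⟩

omit hD hM hU in
/-- A lift defined up to elements killed by a power of the values descends after contracting. -/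
theorem exists_descend (hJ : Coh.IsQCoh J) {V : X.Opens} (hV : IsAffineOpen V) :
    ∀ (m n : ℕ) (F : Type u) [AddCommGroup F] [Module Γ(X, V) F]
      (π : F →ₗ[Γ(X, V)] Γ(CohB1.tensorPow J n, V)) (L : F →ₗ[Γ(X, V)] Γ(M, V)),
      Function.Surjective π →
      (∀ x, res M (inf_le_left : V ⊓ U ≤ V) (L x) =
        resO X (inf_le_left : V ⊓ U ≤ V) (sev (spow σ n) V (π x)) •
          res M (inf_le_right : V ⊓ U ≤ U) s) →
      (∀ a ∈ idl σ V ^ m, ∀ x ∈ LinearMap.ker π, a • L x = 0) →
      ∃ (k : ℕ) (ψ : Γ(CohB1.tensorPow J k, V) →ₗ[Γ(X, V)] Γ(M, V)),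
        ∀ t, res M (inf_le_left : V ⊓ U ≤ V) (ψ t) =
          resO X (inf_le_left : V ⊓ U ≤ V) (sev (spow σ k) V t) •
            res M (inf_le_right : V ⊓ U ≤ U) s
  | 0, n, F, _, _, π, L, hπ, hL, hk => by
    have hker : LinearMap.ker π ≤ LinearMap.ker L := fun x hx => by
      have h := hk 1 (by rw [pow_zero, Ideal.one_eq_top]; trivial) x hx
      rwa [one_smul] at h
    refine ⟨n, ((LinearMap.ker π).liftQ L hker).comp (π.quotKerEquivOfSurjective hπ).symm.toLinearMap,
      fun t => ?_⟩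
    obtain ⟨x, rfl⟩ := hπ t
    rw [LinearMap.comp_apply, LinearEquiv.coe_coe,
      show (π.quotKerEquivOfSurjective hπ).symm (π x) = Submodule.Quotient.mk x from
        (LinearEquiv.symm_apply_eq _).2 rfl, Submodule.liftQ_apply]
    exact hL x
  | m + 1, n, F, _, _, π, L, hπ, hL, hk => by
    let B : F →ₗ[Γ(X, V)] Γ(J, V) →ₗ[Γ(X, V)] Γ(M, V) :=
      LinearMap.mk₂ Γ(X, V) (fun x j => (sev σ V j) • L x)
        (fun x y j => by rw [map_add, smul_add])
        (fun c x j => by rw [map_smul, smul_comm])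
        (fun x j j' => by rw [map_add, add_smul])
        (fun c x j => by rw [map_smul, smul_eq_mul, mul_smul])
    refine exists_descend hJ hV m (n + 1) (F ⊗[Γ(X, V)] Γ(J, V))
      ((ttEquiv (qcoh_pow hJ n) hJ hV).toLinearMap.comp (π.rTensor Γ(J, V))) (TensorProduct.lift B)
      ((ttEquiv (qcoh_pow hJ n) hJ hV).surjective.comp (LinearMap.rTensor_surjective _ hπ)) (fun p => ?_) ?_
    · induction p using TensorProduct.induction_on with
      | zero =>
        simp only [map_zero, zero_smul]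
      | add a b ha hb =>
        rw [map_add, map_add, ha, hb, map_add, map_add, map_add, add_smul]
      | tmul x j =>
        rw [TensorProduct.lift.tmul]
        change res M _ ((sev σ V j) • L x) = resO X _
          (sev (spow σ n) V ((cstep σ n).app V (TMul.tm (π x) j))) • _
        rw [cstep_tm, res_smul, hL x, smul_smul, ← map_mul, map_smul, smul_eq_mul]
    · intro a ha p hp
      rw [LinearMap.ker_comp, LinearEquiv.ker, Submodule.comap_bot,
        LinearMap.exact_iff.mp (rTensor_exact _ π.exact_subtype_ker_map hπ)] at hp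
      obtain ⟨q, rfl⟩ := hp
      induction q using TensorProduct.induction_on with
      | zero => simp
      | add a b ha hb => rw [map_add, map_add, smul_add, ha, hb, add_zero]
      | tmul x j =>
        rw [LinearMap.rTensor_tmul, TensorProduct.lift.tmul]
        change a • (sev σ V j) • L x.1 = 0
        rw [smul_smul]
        exact hk _ (by rw [pow_succ]; exact Ideal.mul_mem_mul ha ⟨j, rfl⟩) x.1 x.2

/-- The extension over one affine open. -/
theorem exists_extend_affine (hJ : Coh.IsQCoh J) (hJ' : CohB1.IsFP J) {V : X.Opens} (hV : IsAffineOpen V) :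
    ∃ (k : ℕ) (ψ : Γ(CohB1.tensorPow J k, V) →ₗ[Γ(X, V)] Γ(M, V)),
        ∀ t, res M (inf_le_left : V ⊓ U ≤ V) (ψ t) =
          resO X (inf_le_left : V ⊓ U ≤ V) (sev (spow σ k) V t) •
            res M (inf_le_right : V ⊓ U ≤ U) s := by
  classical
  obtain ⟨n, hn⟩ := exists_extend_scalar σ hD hM hU s hJ hJ' hV
  haveI := fp_sections hJ hJ' hV n
  obtain ⟨k, π, hπ⟩ := Module.Finite.exists_fin' Γ(X, V) Γ(CohB1.tensorPow J n, V)
  choose y hy using fun i : Fin k => hn _ (spow_mem σ hJ hV n (π (Pi.single i 1)))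
  let L : (Fin k → Γ(X, V)) →ₗ[Γ(X, V)] Γ(M, V) :=
    (Pi.basisFun Γ(X, V) (Fin k)).constr Γ(X, V) y
  have hL : ∀ x, res M (inf_le_left : V ⊓ U ≤ V) (L x) =
      resO X (inf_le_left : V ⊓ U ≤ V) (sev (spow σ n) V (π x)) •
        res M (inf_le_right : V ⊓ U ≤ U) s := by
    intro x
    have hx := (Pi.basisFun Γ(X, V) (Fin k)).mem_span x
    induction hx using Submodule.span_induction with
    | mem z hz =>
      obtain ⟨i, rfl⟩ := hz
      rw [show L (Pi.basisFun Γ(X, V) (Fin k) i) = y i from Module.Basis.constr_basis _ _ _ i, hy i,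
        Pi.basisFun_apply]
    | zero =>
      simp only [map_zero, zero_smul]
    | add a b _ _ ha hb =>
      rw [map_add, map_add, ha, hb, map_add, map_add, map_add, add_smul]
    | smul c a _ ha =>
      rw [map_smul, res_smul, ha, map_smul, map_smul, smul_smul, smul_eq_mul, map_mul]
  obtain ⟨S, hS⟩ := Module.FinitePresentation.fg_ker π hπ
  obtain ⟨m, hm⟩ := exists_kill_finset σ hD hM hJ hJ' hV (S.image L) (by
    intro z hz
    obtain ⟨x, hx, rfl⟩ := Finset.mem_image.1 hz
    have hx' : π x = 0 := hS.le (Submodule.subset_span hx)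
    rw [hL, hx', map_zero, map_zero, zero_smul])
  refine exists_descend σ s hJ hV m n _ π L hπ hL fun a ha x hx => ?_
  rw [← hS] at hx
  induction hx using Submodule.span_induction with
  | mem z hz => exact hm a ha _ (Finset.mem_image_of_mem L hz)
  | zero => simp
  | add a' b' _ _ h1 h2 => rw [map_add, smul_add, h1, h2, add_zero]
  | smul c z _ h1 => rw [map_smul, smul_comm, h1, smul_zero]

omit hD hM hU in
/-- Composing a family with a morphism. -/
def famPre {A B : X.Modules} (φ : A ⟶ B) {V : X.Opens} (F : ModDesc.Fam B M V) : ModDesc.Fam A M V where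
  f W hW := (F.f W hW).comp (appLin φ W)
  nat W' W h hW t := by
    change res M h (F.f W hW (φ.app W t)) = F.f W' (h.trans hW) (φ.app W' (res A h t))
    rw [F.nat, ← app_res]

/-- **Sections over the open extend to maps out of all large tensor powers.** -/
theorem exists_extend [CompactSpace X] (hJ : Coh.IsQCoh J) (hJ' : CohB1.IsFP J) :
    ∃ N : ℕ, ∀ n, N ≤ n → ∃ φ : CohB1.tensorPow J n ⟶ M, ∀ (W : X.Opens) (hW : W ≤ U)
      (t : Γ(CohB1.tensorPow J n, W)), φ.app W t = (sev (spow σ n) W t) • res M hW s := by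
  classical
  haveI : M.IsQuasicoherent := hM
  obtain ⟨ι, hι, V, hV, -, hcov⟩ := QC.exists_finite_affine_cover (X := X) (W := ⊤) isCompact_univ
  choose k ψ hψ using fun i => exists_extend_affine σ hD hM hU s hJ hJ' (hV i)
  -- families on the charts in a common degree
  let N₁ := Finset.univ.sup k
  have key : ∀ i, ∃ F : ModDesc.Fam (CohB1.tensorPow J N₁) M (V i),
      ∀ t, res M (inf_le_left : V i ⊓ U ≤ V i) (F.f (V i) le_rfl t) =
          resO X (inf_le_left : V i ⊓ U ≤ V i) (sev (spow σ N₁) (V i) t) •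
            res M (inf_le_right : V i ⊓ U ≤ U) s := by
    intro i
    haveI := qcoh_pow hJ (k i)
    obtain ⟨F, hF⟩ := ModDesc.exists_fam (N := M) (hV i) (ψ i)
    obtain ⟨d, hd⟩ := Nat.exists_eq_add_of_le (Finset.le_sup (f := k) (Finset.mem_univ i))
    rw [show N₁ = k i + d from hd]
    refine ⟨famPre (cmap σ (k i) d) F, fun t => ?_⟩
    change res M _ (F.f (V i) le_rfl ((cmap σ (k i) d).app (V i) t)) = _
    rw [hF, hψ i, ← cmap_spow]
    rfl
  choose F hF using key
  haveI := qcoh_pow hJ N₁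
  -- the value on opens inside `U`
  have hFU : ∀ i (W : X.Opens) (hWi : W ≤ V i) (hWU : W ≤ U) (t : Γ(CohB1.tensorPow J N₁, W)),
      (F i).f W hWi t = (sev (spow σ N₁) W t) • res M hWU s := by
    intro i W hWi hWU t
    let G : ModDesc.Fam (CohB1.tensorPow J N₁) M U :=
      { f := fun W' h' => (LinearMap.toSpanSingleton Γ(X, W') Γ(M, W') (res M h' s)).comp (sev (spow σ N₁) W')
        nat := fun W' W h hW t => by
          change res M h ((sev (spow σ N₁) W t) • res M hW s) =
            (sev (spow σ N₁) W' (res _ h t)) • res M (h.trans hW) s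
          rw [res_smul, res_res, sev_res] }
    refine section_eq_of_locally fun x hx => ?_
    obtain ⟨a, ha, hxa⟩ := (hV i).exists_basicOpen_le ⟨x, hx⟩ (hWi hx)
    refine ⟨X.basicOpen a, ha, hxa, ?_⟩
    change res M ha ((F i).f W hWi t) = res M ha (G.f W hWU t)
    rw [(F i).nat, G.nat]
    refine ModDesc.Fam.eq_of_agree ((hV i).basicOpen a) (F i) G (ha.trans hWi) (ha.trans hWU)
      (res _ (X.basicOpen_le a) '' Set.univ)
      (Submodule.eq_top_iff'.2 fun z => QC.mem_span_basicOpen (hV i) a (Submodule.span_univ) z) ?_ _ le_rfl _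
    rintro _ ⟨z, -, rfl⟩
    rw [← (F i).nat _ _ (X.basicOpen_le a) le_rfl, ← res_res M (le_inf (X.basicOpen_le a) (ha.trans hWU))
      (inf_le_left : V i ⊓ U ≤ V i), hF i z, res_smul, resO_resO, res_res]
    rw [sev_res]
    rfl
  -- affine pieces of the overlaps
  choose κ hκ W hW hWle hWcov using fun p : ι × ι =>
    QC.exists_finite_affine_cover (X := X) (W := V p.1 ⊓ V p.2)
      ((hV p.1).isCompact.inter_of_isOpen (hV p.2).isCompact (V p.1).2 (V p.2).2)
  haveI : ∀ p, Fintype (κ p) := hκ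
  have hm : ∀ q : Σ p : ι × ι, κ p, ∃ m : ℕ, ∀ a ∈ idl σ (W q.1 q.2) ^ m, ∀ t,
      a • ((F q.1.1).f (W q.1 q.2) ((hWle q.1 q.2).trans inf_le_left) -
        (F q.1.2).f (W q.1 q.2) ((hWle q.1 q.2).trans inf_le_right)) t = 0 := by
    rintro ⟨⟨i, j⟩, r⟩
    haveI := fp_sections hJ hJ' (hW (i, j) r) N₁
    obtain ⟨T, hT⟩ := (Module.Finite.fg_top : (⊤ : Submodule Γ(X, W (i, j) r)
      Γ(CohB1.tensorPow J N₁, W (i, j) r)).FG)
    let D := (F i).f (W (i, j) r) ((hWle (i, j) r).trans inf_le_left) -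
      (F j).f (W (i, j) r) ((hWle (i, j) r).trans inf_le_right)
    obtain ⟨m, hm⟩ := exists_kill_finset σ hD hM hJ hJ' (hW (i, j) r) (T.image D) (by
      intro z hz
      obtain ⟨t, -, rfl⟩ := Finset.mem_image.1 hz
      change res M _ ((F i).f _ _ t - (F j).f _ _ t) = 0
      rw [map_sub, (F i).nat, (F j).nat, hFU i _ _ inf_le_right, hFU j _ _ inf_le_right, sub_self])
    refine ⟨m, fun a ha t => ?_⟩
    have ht : t ∈ Submodule.span Γ(X, W (i, j) r) (T : Set Γ(CohB1.tensorPow J N₁, W (i, j) r)) :=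
      hT.symm ▸ Submodule.mem_top
    change a • D t = 0
    induction ht using Submodule.span_induction with
    | mem z hz => exact hm a ha _ (Finset.mem_image_of_mem D hz)
    | zero => simp
    | add a' b' _ _ h1 h2 => rw [map_add, smul_add, h1, h2, add_zero]
    | smul c z _ h1 => rw [map_smul, smul_comm, h1, smul_zero]
  choose m hm using hm
  refine ⟨N₁ + Finset.univ.sup m, fun n hn => ?_⟩
  obtain ⟨d, rfl⟩ := Nat.exists_eq_add_of_le (le_trans (Nat.le_add_right _ _) hn)
  haveI := qcoh_pow hJ (N₁ + d)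
  obtain ⟨φ, hφ⟩ := ModDesc.exists_hom_of_fam V (fun x => hcov x trivial)
    (fun i => famPre (cmap σ N₁ d) (F i)) (fun i j x hx => by
      obtain ⟨r, hr⟩ := hWcov (i, j) x hx
      refine ⟨W (i, j) r, hW _ r, Set.univ, (hWle _ r).trans inf_le_left, (hWle _ r).trans inf_le_right, hr,
        Submodule.span_univ, fun t _ => sub_eq_zero.1 ?_⟩
      exact cmap_kill σ hJ (hW (i, j) r) N₁ d
        ((F i).f _ ((hWle (i, j) r).trans inf_le_left) - (F j).f _ ((hWle (i, j) r).trans inf_le_right))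
        (fun a ha t => hm ⟨(i, j), r⟩ a
          (Ideal.pow_le_pow_right ((Finset.le_sup (Finset.mem_univ _)).trans (Nat.add_le_add_iff_left.1 hn)) ha) t) t)
  refine ⟨φ, fun W' hW' t => section_eq_of_locally fun x hx => ?_⟩
  obtain ⟨i, hi⟩ := hcov x trivial
  refine ⟨W' ⊓ V i, inf_le_left, ⟨hx, hi⟩, ?_⟩
  rw [app_res, hφ i _ inf_le_right]
  change (F i).f _ _ ((cmap σ N₁ d).app _ _) = _
  rw [hFU i _ _ (inf_le_left.trans hW'), res_smul, res_res, ← cmap_spow σ N₁ d]
  rw [sev_res]
  rfl

end Groth.Agent.ResExtend
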