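import Groth.Agent.DirImgLib.Extend
import Groth.Agent.SymAlgGen.Basic
import Groth.Agent.SymAlg.Exists
import Groth.Agent.QCSup.Basic
import Groth.Agent.HomColim.Coprod
import Groth.Agent.ModDesc.Fam
import Groth.Agent.ResDesc.ResProp
import Mathlib.AlgebraicGeometry.Morphisms.ClosedImmersion
import Mathlib.AlgebraicGeometry.Morphisms.FiniteType
import Groth.Agent.SymAlg.FTSub

/-!
Embeddings of affine schemes into vector bundles, and generation of modules by such embeddings.
-/

set_option autoImplicit false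
set_option backward.isDefEq.respectTransparency false
set_option linter.style.haveILetI false

universe u

open CategoryTheory CategoryTheory.Limits AlgebraicGeometry TopologicalSpace Opposite
open Groth.Agent.QC (res resO res_res res_self res_smul app_res)
open Groth.Agent.SymAlgGen (strS jsec)

noncomputable section

namespace Groth.Agent.ResExtend

variable {S : Scheme.{u}}

/-- A map of modules generating the direct image algebra gives an embedding into the vector bundle. -/
theorem exists_closedImm {X : Scheme.{u}} (f : X ⟶ S) [IsAffineHom f] {E : S.Modules} (hE : Coh.IsQCoh E)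
    (θ : E ⟶ (RelSpec.QCAlg.directImage f).toModule) {ι : Type*} (U : ι → S.Opens) (hU : ∀ i, IsAffineOpen (U i))
    (hcov : ∀ x : S, ∃ i, x ∈ U i)
    (hgen : ∀ i, Subring.closure (Set.range (strS (RelSpec.QCAlg.directImage f) (U i)) ∪
      Set.range (jsec θ (U i))) = ⊤) :
    ∃ (B : RelSpec.QCAlg S) (j : E ⟶ B.toModule) (c : X ⟶ B.spec),
      RelSpec.IsSymAlg E B j ∧ IsClosedImmersion c ∧ c ≫ B.π = f := by
  obtain ⟨B, j, -, hB, -⟩ := SymAlg.exists_isSymAlg hE
  obtain ⟨ψ, hψ, -⟩ := hB (RelSpec.QCAlg.directImage f) θ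
  obtain ⟨⟨c, hc⟩, hω⟩ := (RelSpecUP.toAlg_bijective B f).2 ⟨ψ.hom, ψ.comm⟩
  have hω' : inv B.gammaMap ≫ AffAlg.algHom B.π f c hc = ψ.hom := congrArg Subtype.val hω
  refine ⟨B, j, c, hB, ?_, hc⟩
  have hsurj : ∀ i, Function.Surjective (ψ.hom.app (op (U i))) := by
    intro i
    refine RingHom.range_eq_top.mp (top_le_iff.mp ((hgen i).symm.trans_le (Subring.closure_le.2 ?_)))
    rintro _ (⟨r, rfl⟩ | ⟨e, rfl⟩)
    · exact ⟨strS B (U i) r, congr($(congr($(ψ.comm).app (op (U i)))) r)⟩
    · refine ⟨jsec j (U i) e, ?_⟩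
      rw [← hψ]
      rfl
  refine IsZariskiLocalAtTarget.of_iSup_eq_top (fun i => B.π ⁻¹ᵁ U i)
    (top_le_iff.1 fun x _ => Opens.mem_iSup.2 (hcov (B.π x))) fun i => ?_
  have hle : c ⁻¹ᵁ (B.π ⁻¹ᵁ U i) = f ⁻¹ᵁ U i := by rw [← Scheme.Hom.comp_preimage, hc]
  haveI : IsAffine (B.π ⁻¹ᵁ U i : Scheme.{u}) := (hU i).preimage B.π
  haveI : IsAffine (c ⁻¹ᵁ (B.π ⁻¹ᵁ U i) : Scheme.{u}) := by rw [hle]; exact (hU i).preimage f
  refine IsClosedImmersion.of_surjective_of_isAffine _ ?_
  have h2 : Function.Surjective (c.appLE (B.π ⁻¹ᵁ U i) (f ⁻¹ᵁ U i) hle.ge) := by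
    intro y
    obtain ⟨z, hz⟩ := hsurj i y
    refine ⟨(inv B.gammaMap).app (op (U i)) z, ?_⟩
    rw [← hω', NatTrans.comp_app, RelSpecUP.algHom_app] at hz
    exact hz
  have h3 : ∀ W, W = B.π ⁻¹ᵁ U i → Function.Surjective (c.app W) := by
    rintro W rfl y
    obtain ⟨z, hz⟩ := h2 (X.presheaf.map (eqToHom hle.symm).op y)
    refine ⟨z, (ConcreteCategory.bijective_of_isIso (X.presheaf.map (eqToHom hle.symm).op)).1 (Eq.trans ?_ hz)⟩
    rfl
  intro y
  obtain ⟨w, hw⟩ := (ConcreteCategory.bijective_of_isIso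
    (X.presheaf.map (eqToHom (image_morphismRestrict_preimage c (B.π ⁻¹ᵁ U i) ⊤)).op)).2 y
  obtain ⟨z, hz⟩ := h3 _ (Scheme.Opens.ι_image_top _) w
  refine ⟨z, ?_⟩
  rw [morphismRestrict_appTop]
  exact (congrArg (X.presheaf.map (eqToHom (image_morphismRestrict_preimage c (B.π ⁻¹ᵁ U i) ⊤)).op) hz).trans hw

theorem finiteType_inlHom (R : Type u) [CommRing R] (N : Type u) [AddCommGroup N] [Module R N] [Module Rᵐᵒᵖ N]
    [IsCentralScalar R N] [Module.Finite R N] : (TrivSqZeroExt.inlHom R N).FiniteType := by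
  haveI : Module.Finite R (TrivSqZeroExt R N) := inferInstanceAs (Module.Finite R (R × N))
  exact RingHom.finiteType_algebraMap.mpr (inferInstance : Algebra.FiniteType R (TrivSqZeroExt R N))

/-- An embedding of the square-zero thickening by `M` into a vector bundle presents `M`. -/
theorem exists_thickening (M : S.Modules) (hM : Coh.IsQCoh M) :
    ∃ (Y : Scheme.{u}) (f : Y ⟶ S) (_ : IsAffineHom f), (CohB1.IsFT M → LocallyOfFiniteType f) ∧
      ∀ (E : S.Modules) (B : RelSpec.QCAlg S) (j : E ⟶ B.toModule) (c : Y ⟶ B.spec), Coh.IsQCoh E →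
        RelSpec.IsSymAlg E B j → IsClosedImmersion c → c ≫ B.π = f → ∃ θ : E ⟶ M, Epi θ := by
  let M' := (AMod.dirImg (𝟙 S)).obj M
  haveI : M.IsQuasicoherent := hM
  have hM' : Coh.IsQCoh ((AMod.toOS (RelSpec.QCAlg.directImage (𝟙 S))).obj M') :=
    (QC.isQCoh_pushforward (𝟙 S) : Coh.IsQCoh ((Scheme.Modules.pushforward (𝟙 S)).obj M))
  let C := DirImgExt.extAlg (𝟙 S) M' hM'
  refine ⟨C.spec, C.π, inferInstance, fun hMT => ?_, fun E B j c hE hB hc hcπ => ?_⟩
  · refine (IsZariskiLocalAtSource.iff_of_openCover C.glueData.cover).2 fun U => ?_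
    change LocallyOfFiniteType (C.ι U.1 U.2 ≫ C.π)
    rw [C.ι_π]
    haveI : LocallyOfFiniteType (Spec.map (C.str.app (op U.1))) := by
      refine (HasRingHomProperty.Spec_iff (P := @LocallyOfFiniteType)).2 ?_
      haveI : Module.Finite Γ(S, U.1) Γ(M, U.1) := (QC.isFT_iff_finite_sections (M := M)).mp hMT ⟨U.1, U.2⟩
      let R := Γ(S, (𝟙 S) ⁻¹ᵁ U.1)
      let N := DirImgExt.Sec (𝟙 S) M' U.1
      haveI : Module.Finite R N := (inferInstance : Module.Finite Γ(S, U.1) Γ(M, U.1))
      change ((TrivSqZeroExt.inlHom R N).comp ((𝟙 S : S ⟶ S).app U.1).hom).FiniteType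
      exact (finiteType_inlHom R N).comp
        (RingHom.FiniteType.of_surjective _ (ConcreteCategory.bijective_of_isIso ((𝟙 S : S ⟶ S).app U.1)).2)
    infer_instance
  · let ω : B.presheaf ⟶ C.presheaf := (RelSpecUP.toAlg B C.π ⟨c, hcπ⟩).1 ≫ C.gammaMap
    have hstr : ∀ (V : S.Opens) (r : Γ(S, V)), ω.app (op V) (strS B V r) = strS C V r := by
      intro V r
      have h : B.str ≫ ω = C.str := by
        rw [← Category.assoc, (RelSpecUP.toAlg B C.π ⟨c, hcπ⟩).2, C.π_c_gammaMap]
      exact congr($(congr($(h).app (op V))) r)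
    have hωs : ∀ V, IsAffineOpen V → Function.Surjective (ω.app (op V)) := by
      intro V hV
      have hle : c ⁻¹ᵁ (B.π ⁻¹ᵁ V) = C.π ⁻¹ᵁ V := by rw [← Scheme.Hom.comp_preimage, hcπ]
      have h1 : Function.Surjective ((AffAlg.algHom B.π C.π c hcπ).app (op V)) := by
        rw [RelSpecUP.algHom_app, Scheme.Hom.appLE]
        haveI : IsIso (C.spec.presheaf.map (homOfLE hle.ge).op) := by
          rw [show homOfLE hle.ge = eqToHom hle.symm from rfl]; infer_instance
        exact (ConcreteCategory.bijective_of_isIso (C.spec.presheaf.map (homOfLE hle.ge).op)).2.comp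
          (Scheme.Hom.app_surjective c _ (hV.preimage B.π))
      exact (ConcreteCategory.bijective_of_isIso ((asIso C.gammaMap).app (op V)).hom).2.comp
        (h1.comp (ConcreteCategory.bijective_of_isIso ((asIso B.gammaMap).app (op V)).inv).2)
    let η : ∀ V : S.Opens, Γ(E, V) → Γ(M, V) := fun V e =>
      TrivSqZeroExt.snd (ω.app (op V) (jsec j V e) : DirImgExt.Ext (𝟙 S) M' V)
    have hnat : ∀ (W V : S.Opens) (h : W ≤ V) (e : Γ(E, V)), res M h (η V e) = η W (res E h e) := by
      intro W V h e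
      have h1 : SymAlgGen.aRes C h (ω.app (op V) (jsec j V e)) = ω.app (op W) (jsec j W (res E h e)) := by
        rw [← SymAlgGen.aRes_jsec j h e]
        exact congr($(ω.naturality (homOfLE h).op) (jsec j V e)).symm
      exact (DirImgExt.snd_resE (𝟙 S) M' h _).symm.trans (congrArg TrivSqZeroExt.snd h1)
    have hsmul : ∀ (V : S.Opens) (r : Γ(S, V)) (e : Γ(E, V)), η V (r • e) = r • η V e := by
      intro V r e
      change TrivSqZeroExt.snd (ω.app (op V) (jsec j V (r • e)) : DirImgExt.Ext (𝟙 S) M' V) = _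
      rw [SymAlgGen.jsec_smul, map_mul, hstr]
      refine (TrivSqZeroExt.snd_mul _ _).trans ?_
      exact (congrArg₂ (· + ·) rfl (smul_zero _)).trans (add_zero _)
    have hadd : ∀ (V : S.Opens) (e e' : Γ(E, V)), η V (e + e') = η V e + η V e' := by
      intro V e e'
      change TrivSqZeroExt.snd (ω.app (op V) (jsec j V (e + e')) : DirImgExt.Ext (𝟙 S) M' V) = _
      rw [show jsec j V (e + e') = jsec j V e + jsec j V e' from map_add (j.app V).hom e e', map_add]
      exact TrivSqZeroExt.snd_add _ _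
    obtain ⟨θ, hθ⟩ := ModDesc.exists_hom_of_local (M := E) (N := M) (fun _ : PUnit.{u + 1} => (⊤ : S.Opens))
      (fun x => ⟨⟨⟩, trivial⟩) (fun _ V _ => { toFun := η V, map_add' := hadd V, map_smul' := hsmul V })
      (fun _ W V h _ e => hnat W V h e) (fun _ _ _ _ _ _ => rfl)
    refine ⟨θ, Preadditive.epi_of_cancel_zero _ fun {N} g hg => ?_⟩
    obtain ⟨κ, W, hW, hcov⟩ : ∃ (κ : Type u) (W : κ → S.Opens), (∀ i, IsAffineOpen (W i)) ∧ ∀ x, ∃ i, x ∈ W i :=
      ⟨S.affineOpens, fun W => W.1, fun W => W.2, fun x => by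
        obtain ⟨W, hW, hx, -⟩ := exists_isAffineOpen_mem_and_subset (X := S) (x := x) (U := ⊤) trivial
        exact ⟨⟨W, hW⟩, hx⟩⟩
    refine ResDesc.cancel_zero_of_span hM W hW hcov (fun i => Set.range (η (W i))) (fun i => ?_) g ?_
    · let N' : Submodule Γ(S, W i) Γ(M, W i) := LinearMap.range
        ({ toFun := η (W i), map_add' := hadd _, map_smul' := hsmul _ } : Γ(E, W i) →ₗ[Γ(S, W i)] Γ(M, W i))
      haveI : E.IsQuasicoherent := hE
      refine top_le_iff.1 fun m _ => Submodule.subset_span ?_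
      change m ∈ N'
      obtain ⟨b, hb⟩ := hωs _ (hW i) (TrivSqZeroExt.inr (M := DirImgExt.Sec (𝟙 S) M' (W i)) m :
        DirImgExt.Ext (𝟙 S) M' (W i))
      have hall : ∀ a ∈ SymAlgGen.gen j (W i),
          (TrivSqZeroExt.snd (ω.app (op (W i)) a : DirImgExt.Ext (𝟙 S) M' (W i)) : Γ(M, W i)) ∈ N' := by
        intro a ha
        induction ha using Subring.closure_induction with
        | mem z hz =>
          rcases hz with ⟨r, rfl⟩ | ⟨e, rfl⟩
          · rw [hstr]; exact N'.zero_mem
          · exact ⟨e, rfl⟩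
        | zero => rw [map_zero]; exact N'.zero_mem
        | one => rw [map_one]; exact N'.zero_mem
        | add a b _ _ ha hb =>
          rw [map_add]
          exact N'.add_mem ha hb
        | neg a _ ha =>
          rw [map_neg]
          exact N'.neg_mem ha
        | mul a b _ _ ha hb =>
          rw [map_mul]
          have key : ∀ x y : DirImgExt.Ext (𝟙 S) M' (W i),
              (x * y).snd = x.fst • y.snd + y.fst • x.snd := fun x y => by
            rw [TrivSqZeroExt.snd_mul, op_smul_eq_smul]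
          let x : DirImgExt.Ext (𝟙 S) M' (W i) := ω.app (op (W i)) a
          let y : DirImgExt.Ext (𝟙 S) M' (W i) := ω.app (op (W i)) b
          change ((x * y).snd : Γ(M, W i)) ∈ N'
          rw [key x y]
          exact N'.add_mem (N'.smul_mem (x.fst : Γ(S, W i)) hb) (N'.smul_mem (y.fst : Γ(S, W i)) ha)
      have h2 := hall b (SymAlgGen.gen_eq_top hB (hW i) ▸ Subring.mem_top b)
      rw [hb] at h2
      exact h2
    · rintro i _ ⟨e, rfl⟩
      change g.app (W i) (η (W i) e) = 0
      rw [show η (W i) e = θ.app (W i) e from (hθ ⟨⟩ (W i) le_top e).symm]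
      exact congrArg (fun φ : E ⟶ N => φ.app (W i) e) hg

/-- A section of a direct sum over a quasi-compact open comes from finitely many summands. -/
theorem exists_finset_sum {κ : Type u} (E : κ → S.Modules) {U : S.Opens} (hU : IsCompact (U : Set S))
    (s : Γ(∐ E, U)) : ∃ (T : Finset κ) (a : ∀ k, Γ(E k, U)), s = ∑ k ∈ T, (Sigma.ι E k).app U (a k) := by
  classical
  let c := colimit.cocone (Discrete.functor E)
  choose π hπ hπ' using HomColim.exists_proj (O := S.sheaf) c (colimit.isColimit _)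
  obtain ⟨T, -, hT⟩ := HomColim.exists_eq_sum_proj (O := S.sheaf) c (HomColim.finRefines_of_isCompact hU)
    (colimit.isColimit _) π hπ hπ' s
  refine ⟨T.image Discrete.as, fun k => (π ⟨k⟩).val.app (op U) s, ?_⟩
  rw [Finset.sum_image fun a _ b _ h => Discrete.ext h]
  exact hT

/-- The direct image algebra of an affine morphism locally of finite type is generated by finitely many sections. -/
theorem exists_finset_gen {X : Scheme.{u}} (f : X ⟶ S) [IsAffineHom f] [LocallyOfFiniteType f] {U : S.Opens}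
    (hU : IsAffineOpen U) :
    ∃ T : Finset Γ((RelSpec.QCAlg.directImage f).toModule, U),
      Subring.closure (Set.range (strS (RelSpec.QCAlg.directImage f) U) ∪
        ((show Finset ((RelSpec.QCAlg.directImage f).presheaf.obj (op U)) from T) : Set _)) = ⊤ := by
  have h : (f.app U).hom.FiniteType := by
    rw [Scheme.Hom.app_eq_appLE]
    exact f.finiteType_appLE hU (hU.preimage f) le_rfl
  letI := (f.app U).hom.toAlgebra
  have h' : Algebra.FiniteType Γ(S, U) Γ(X, f ⁻¹ᵁ U) := h
  obtain ⟨T, hT⟩ := h'.out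
  refine ⟨T, ?_⟩
  have h2 : (Algebra.adjoin Γ(S, U) (T : Set Γ(X, f ⁻¹ᵁ U))).toSubring = ⊤ := by
    rw [hT]; rfl
  exact (Algebra.adjoin_eq_ring_closure (T : Set Γ(X, f ⁻¹ᵁ U))).symm.trans h2

/-- A map whose image contains generators over an affine open generates there. -/
theorem closure_eq_top_of_subset {E : S.Modules} {B : RelSpec.QCAlg S} (θ : E ⟶ B.toModule) {U : S.Opens}
    {T : Finset Γ(B.toModule, U)}
    (hT : Subring.closure (Set.range (strS B U) ∪
        ((show Finset (B.presheaf.obj (op U)) from T) : Set _)) = ⊤)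
    (h : ∀ t ∈ T, ∃ e, θ.app U e = t) :
    Subring.closure (Set.range (strS B U) ∪ Set.range (jsec θ U)) = ⊤ :=
  top_le_iff.1 (hT.ge.trans (Subring.closure_mono (Set.union_subset_union_right _ fun t ht => by
    obtain ⟨e, he⟩ := h t ht
    exact ⟨e, he⟩)))

end Groth.Agent.ResExtend
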