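import Groth.Agent.ResExtend.Basic
import Groth.Agent.ResDesc.ResProp
import Groth.Agent.CohQC.Affineness
import Groth.Agent.QC.Closure
import Groth.Agent.QC.FTIdeal
import Groth.Prelude.Def_PerfAux

/-!
Vector bundles generating finite type modules from cosections cutting out an affine cover.
-/

set_option autoImplicit false
set_option backward.isDefEq.respectTransparency false
set_option linter.style.haveILetI false

universe u

open CategoryTheory CategoryTheory.Limits AlgebraicGeometry TopologicalSpace Opposite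
open Groth.Agent.QC (res resO res_res res_self res_smul app_res)

noncomputable section

namespace Groth.Agent.ResExtend

variable {X : Scheme.{u}}

theorem exists_spow_eq_one {J : X.Modules} (σ : J ⟶ Coh.structureModule X) {D : X.Opens}
    (h : ∃ e : Γ(J, D), sev σ D e = 1) : ∀ n, ∃ t : Γ(CohB1.tensorPow J n, D), sev (spow σ n) D t = 1
  | 0 => ⟨(1 : Γ(X, D)), rfl⟩
  | n + 1 => by
    obtain ⟨e, he⟩ := h
    obtain ⟨t, ht⟩ := exists_spow_eq_one σ ⟨e, he⟩ n
    refine ⟨TMul.tm t e, ?_⟩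
    change sev (spow σ n) D ((cstep σ n).app D (TMul.tm t e)) = 1
    rw [cstep_tm, he, one_smul, ht]

/-- Finitely many maps from a large tensor power generate over the affine open. -/
theorem exists_gen_maps [CompactSpace X] [QuasiSeparatedSpace X] {J : X.Modules} (σ : J ⟶ Coh.structureModule X)
    (hJ : Coh.IsQCoh J) (hJ' : CohB1.IsFP J) {U : X.Opens} (hU : IsAffineOpen U)
    (hD : ∀ (V : X.Opens) (j : Γ(J, V)), X.basicOpen (sev σ V j) ≤ U) (he : ∃ e : Γ(J, U), sev σ U e = 1)
    (M : X.Modules) (hM : Coh.IsQCoh M) (hMT : CohB1.IsFT M) :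
    ∃ N k : ℕ, ∀ n, N ≤ n → ∃ φ : Fin k → (CohB1.tensorPow J n ⟶ M),
      Submodule.span Γ(X, U) (⋃ l, Set.range ((φ l).app U)) = ⊤ := by
  classical
  haveI : M.IsQuasicoherent := hM
  haveI := (QC.isFT_iff_finite_sections (M := M)).mp hMT ⟨U, hU⟩
  obtain ⟨k, s, hs⟩ := Module.Finite.exists_fin (R := Γ(X, U)) (M := Γ(M, U))
  choose N hN using fun l => exists_extend σ hD hM hU.isCompact (s l) hJ hJ'
  refine ⟨Finset.univ.sup N, k, fun n hn => ?_⟩
  choose φ hφ using fun l => hN l n ((Finset.le_sup (Finset.mem_univ l)).trans hn)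
  refine ⟨φ, top_le_iff.mp (hs ▸ Submodule.span_mono ?_)⟩
  rintro _ ⟨l, rfl⟩
  obtain ⟨t, ht⟩ := exists_spow_eq_one σ he n
  refine Set.mem_iUnion.2 ⟨l, t, ?_⟩
  rw [hφ l U le_rfl t, ht, one_smul, res_self]

/-- Maps generating over an affine cover are jointly epimorphic. -/
theorem epi_desc_of_span {M : X.Modules} (hM : Coh.IsQCoh M) {κ : Type} [Finite κ] (E : κ → X.Modules)
    (p : ∀ a, E a ⟶ M) {ι : Type*} (V : ι → X.Opens) (hV : ∀ i, IsAffineOpen (V i))
    (hcov : ∀ x : X, ∃ i, x ∈ V i)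
    (h : ∀ i, Submodule.span Γ(X, V i) (⋃ a, Set.range ((p a).app (V i))) = ⊤) : Epi (Sigma.desc p) := by
  refine Preadditive.epi_of_cancel_zero _ fun {N} g hg => ?_
  refine ResDesc.cancel_zero_of_span hM V hV hcov _ h g fun i t ht => ?_
  obtain ⟨a, y, rfl⟩ := Set.mem_iUnion.1 ht
  have h0 : p a ≫ g = 0 := by
    have h : (Sigma.ι E a ≫ Sigma.desc p) ≫ g = 0 := by rw [Category.assoc, hg, comp_zero]
    rwa [Sigma.ι_desc] at h
  exact congrArg (fun φ : E a ⟶ N => φ.app (V i) y) h0

theorem isFinLocFree_tensorPow {E : X.Modules} (hE : FlatMod.IsFinLocFree E) :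
    ∀ n, FlatMod.IsFinLocFree (CohB1.tensorPow E n)
  | 0 => ResDesc.isFinLocFree_structureModule X
  | n + 1 => ResDesc.isFinLocFree_tensorMod (isFinLocFree_tensorPow hE n) hE

/-- **Resolution property from cosections of vector bundles cutting out an affine cover.** -/
theorem hasResolutionProperty_of_cosections [CompactSpace X] [QuasiSeparatedSpace X] {ι : Type} [Finite ι]
    (U : ι → X.Opens) (hU : ∀ i, IsAffineOpen (U i)) (hcov : ∀ x : X, ∃ i, x ∈ U i)
    (E : ι → X.Modules) (hE : ∀ i, FlatMod.IsFinLocFree (E i)) (σ : ∀ i, E i ⟶ Coh.structureModule X)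
    (hD : ∀ i (V : X.Opens) (j : Γ(E i, V)), X.basicOpen (sev (σ i) V j) ≤ U i)
    (he : ∀ i, ∃ e : Γ(E i, U i), sev (σ i) (U i) e = 1) : PerfAux.HasResolutionProperty X := by
  intro M hM hMT
  choose N k hN using fun i => exists_gen_maps (σ i) (LocFree.isQCoh_of_isFinLocFree (hE i))
    (LocFree.isFP_of_isFinLocFree (hE i)) (hU i) (hD i) (he i) M hM hMT
  choose φ hφ using fun i => hN i _ le_rfl
  let κ := Σ i, Fin (k i)
  let P : κ → X.Modules := fun a => CohB1.tensorPow (E a.1) (N a.1)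
  let p : ∀ a : κ, P a ⟶ M := fun a => φ a.1 a.2
  refine ⟨∐ P, Sigma.desc p, ?_, ?_⟩
  · have hP : ∀ a, FlatMod.IsFinLocFree (P a) := fun a => isFinLocFree_tensorPow (hE a.1) _
    haveI : Fintype κ := Fintype.ofFinite _
    exact DerPerf.isFinLocFree_of_isColimit Finset.univ (coproductIsCoproduct P)
      (fun i h => absurd (Finset.mem_univ i) h) (fun a _ => hP a)
  · refine epi_desc_of_span hM _ _ U hU hcov fun i => top_le_iff.mp ((hφ i).symm.trans_le ?_)
    exact Submodule.span_mono (Set.iUnion_subset fun l =>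
      Set.subset_iUnion (fun a : Σ i, Fin (k i) => Set.range ((φ a.1 a.2).app (U i))) ⟨i, l⟩)

/-- A scheme covered by affine complements of finite type ideals is quasi-separated. -/
theorem quasiSeparatedSpace_of_ft {m : ℕ} (U : Fin m → X.Opens) (hU : ∀ j, IsAffineOpen (U j))
    (hcov : ∀ x : X, ∃ j, x ∈ U j) (I : Fin m → X.IdealSheafData) (hI : ∀ j, CohB1.IsFT (ClSub.idealMod (I j)))
    (hsupp : ∀ j, ((I j).support : Set X) = (U j : Set X)ᶜ) : QuasiSeparatedSpace X := by
  have hc : ∀ (A : X.affineOpens) j, IsCompact ((A.1 ⊓ U j : X.Opens) : Set X) := fun A j => by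
    haveI : (ClSub.idealMod (I j)).IsQuasicoherent := QC.isQCoh_idealMod (I j)
    haveI := (QC.isFT_iff_finite_sections (M := ClSub.idealMod (I j))).mp (hI j) A
    obtain ⟨T, hT⟩ : ((I j).ideal A).FG := by
      have e : LinearMap.range (sev (ClSub.idealModι (I j)) A.1) = (I j).ideal A :=
        Submodule.ext fun t => QC.mem_range_idealModι_affine (I j) A t
      exact e ▸ Submodule.fg_range _
    have e : ((A.1 ⊓ U j : X.Opens) : Set X) = ⋃ c ∈ T, (X.basicOpen c : Set X) := by
      rw [Opens.coe_inf, ← compl_compl (U j : Set X), ← hsupp j]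
      ext x
      simp only [Set.mem_inter_iff, Set.mem_compl_iff, SetLike.mem_coe, Set.mem_iUnion]
      refine ⟨fun ⟨hxV, hx⟩ => ?_, fun ⟨c, hc, hxc⟩ => ⟨X.basicOpen_le c hxc, fun hx => ?_⟩⟩
      · rw [Scheme.IdealSheafData.mem_support_iff_of_mem hxV, ← hT, Scheme.zeroLocus_span,
          Scheme.mem_zeroLocus_iff] at hx
        push Not at hx
        obtain ⟨c, hc, hxc⟩ := hx
        exact ⟨c, hc, hxc⟩
      · rw [Scheme.IdealSheafData.mem_support_iff_of_mem (X.basicOpen_le c hxc), ← hT,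
          Scheme.zeroLocus_span, Scheme.mem_zeroLocus_iff] at hx
        exact hx c hc hxc
    rw [e]
    exact T.isCompact_biUnion fun c _ => (A.2.basicOpen c).isCompact
  refine (quasiSeparatedSpace_iff_forall_affineOpens).2 fun A B => ?_
  have e : (A : Set X) ∩ B = ⋃ j, ((A.1 ⊓ U j : X.Opens) : Set X) ∩ ((B.1 ⊓ U j : X.Opens) : Set X) :=
    Set.ext fun x => ⟨fun hx => Set.mem_iUnion.2 ⟨(hcov x).choose, ⟨hx.1, (hcov x).choose_spec⟩,
      ⟨hx.2, (hcov x).choose_spec⟩⟩, fun hx => by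
        obtain ⟨j, h1, h2⟩ := Set.mem_iUnion.1 hx
        exact ⟨h1.1, h2.1⟩⟩
  rw [e]
  exact isCompact_iUnion fun j => (hU j).isQuasiSeparated _ _ inf_le_right (Opens.isOpen _) (hc A j)
    inf_le_right (Opens.isOpen _) (hc B j)

end Groth.Agent.ResExtend
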