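import Groth.Agent.ResExtend.Epi
import Groth.Agent.FPExt.Basic
import Groth.Agent.SchDense.Unit

/-!
Finitely presented modules with cosections cutting out affine opens; finite direct sums.
-/

set_option autoImplicit false
set_option backward.isDefEq.respectTransparency false
set_option linter.style.haveILetI false

universe u

open CategoryTheory CategoryTheory.Limits AlgebraicGeometry TopologicalSpace Opposite
open Groth.Agent.QC (res resO res_res res_self res_smul app_res)

noncomputable section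

namespace Groth.Agent.ResExtend

variable {X : Scheme.{u}}

theorem isFP_biprod {A B : X.Modules} (hA : Coh.IsQCoh A) (hB : Coh.IsQCoh B) (hA' : CohB1.IsFP A)
    (hB' : CohB1.IsFP B) : CohB1.IsFP (A ⊞ B) := by
  haveI : (A ⊞ B).IsQuasicoherent := CohQC.isQCoh_biprod hA hB
  refine QC.isFP_iff_exists_hasFinPres.mpr fun x => ?_
  obtain ⟨V, hV, hx, -⟩ := exists_isAffineOpen_mem_and_subset (X := X) (x := x) (U := ⊤) trivial
  haveI := LocFree.finitePresentation_sections_of_isFP hA hA' hV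
  haveI := LocFree.finitePresentation_sections_of_isFP hB hB' hV
  let e : (Γ(A, V) × Γ(B, V)) ≃ₗ[Γ(X, V)] Γ(A ⊞ B, V) :=
    { toFun := fun p => appLin (biprod.inl : A ⟶ A ⊞ B) V p.1 + appLin (biprod.inr : B ⟶ A ⊞ B) V p.2
      invFun := fun t => (appLin (biprod.fst : A ⊞ B ⟶ A) V t, appLin (biprod.snd : A ⊞ B ⟶ B) V t)
      map_add' := fun p q => by simp only [Prod.fst_add, Prod.snd_add, map_add]; abel
      map_smul' := fun c p => by simp only [Prod.smul_fst, Prod.smul_snd, map_smul, smul_add]; rfl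
      left_inv := fun p => by
        refine Prod.ext ?_ ?_
        · simp only [map_add]
          change (biprod.inl ≫ biprod.fst : A ⟶ A).app V p.1 + (biprod.inr ≫ biprod.fst : B ⟶ A).app V p.2 = p.1
          rw [biprod.inl_fst, biprod.inr_fst]
          exact add_zero p.1
        · simp only [map_add]
          change (biprod.inl ≫ biprod.snd : A ⟶ B).app V p.1 + (biprod.inr ≫ biprod.snd : B ⟶ B).app V p.2 = p.2
          rw [biprod.inl_snd, biprod.inr_snd]
          exact zero_add p.2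
      right_inv := fun t => congrArg (fun φ : A ⊞ B ⟶ A ⊞ B => φ.app V t) biprod.total }
  haveI : Module.FinitePresentation Γ(X, V) (Γ(A, V) × Γ(B, V)) := inferInstance
  haveI := Module.FinitePresentation.of_equiv e
  exact ⟨V, hx, QC.hasFinPres_of_finitePresentation hV⟩

theorem isFT_of_fp {M : X.Modules} (hM : Coh.IsQCoh M) (h : CohB1.IsFP M) : CohB1.IsFT M := by
  haveI : M.IsQuasicoherent := hM
  exact QC.isFT_iff_finite_sections.mpr fun V => by
    haveI := LocFree.finitePresentation_sections_of_isFP hM h V.2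
    infer_instance

/-- A finitely presented module with a cosection cutting out a given affine open. -/
theorem exists_fp_cosection [CompactSpace X] [QuasiSeparatedSpace X] {U : X.Opens} (hU : IsAffineOpen U) :
    ∃ (P : X.Modules) (σ : P ⟶ Coh.structureModule X), Coh.IsQCoh P ∧ CohB1.IsFP P ∧
      (∀ (V : X.Opens) (t : Γ(P, V)), X.basicOpen (sev σ V t) ≤ U) ∧ ∃ e, sev σ U e = 1 := by
  obtain ⟨I, J, i, -, hJ, hJT, hI, -, hsupp⟩ := QC.exists_ftIdeal U hU.isCompact
  haveI : J.IsQuasicoherent := hJ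
  obtain ⟨P, π, hP, hP', hπ⟩ := FPExt.exists_fp_epi J hJT
  refine ⟨P, π ≫ i, hP, hP', fun V t x hx => ?_, ?_⟩
  · by_contra hxU
    have hxs : x ∈ (I.support : Set X) := hsupp.ge hxU
    obtain ⟨W, hW, hxW, hWV⟩ := exists_isAffineOpen_mem_and_subset (X.basicOpen_le _ hx)
    rw [SetLike.mem_coe, Scheme.IdealSheafData.mem_support_iff_of_mem (U := ⟨W, hW⟩) hxW,
      Scheme.mem_zeroLocus_iff] at hxs
    refine hxs (sev (π ≫ i) W (res P hWV t)) ((hI ⟨W, hW⟩).ge ⟨π.app W (res P hWV t), rfl⟩) ?_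
    rw [← sev_res]
    exact (X.basicOpen_res (sev (π ≫ i) V t) (homOfLE hWV).op).ge ⟨hxW, hx⟩
  · obtain ⟨y, hy⟩ : ∃ y : Γ(J, U), i.app U y = (1 : Γ(X, U)) := by
      have h1 : (1 : Γ(X, U)) ∈ I.ideal ⟨U, hU⟩ := (QC.mem_range_idealModι_affine I ⟨U, hU⟩ 1).mp
        (CohQC.range_idealModι_of_disjoint I U (by rw [hsupp]; exact Set.inter_compl_self _) 1)
      rw [hI ⟨U, hU⟩] at h1
      exact h1
    obtain ⟨e, he⟩ := QC.app_surjective_of_epi hU hP hJ π y
    exact ⟨e, (congrArg (i.app U) he).trans hy⟩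

theorem exists_sum_retracts {ι : Type} (J : ι → X.Modules) (hJ : ∀ j, Coh.IsQCoh (J j))
    (hJ' : ∀ j, CohB1.IsFP (J j)) (s : Finset ι) :
    ∃ (F : X.Modules) (q₀ : F ⟶ Coh.structureModule X) (i₀ : Coh.structureModule X ⟶ F),
      Coh.IsQCoh F ∧ CohB1.IsFP F ∧ i₀ ≫ q₀ = 𝟙 _ ∧
      ∀ j ∈ s, ∃ (q : F ⟶ J j) (i : J j ⟶ F), i ≫ q = 𝟙 _ := by
  classical
  induction s using Finset.induction_on with
  | empty => exact ⟨_, 𝟙 _, 𝟙 _, QC.isQCoh_unit X, SchDense.isFP_unit X, Category.comp_id _, by simp⟩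
  | insert a s _ ih =>
    obtain ⟨F, q₀, i₀, hF, hF', h0, h⟩ := ih
    refine ⟨F ⊞ J a, biprod.fst ≫ q₀, i₀ ≫ biprod.inl, CohQC.isQCoh_biprod hF (hJ a),
      isFP_biprod hF (hJ a) hF' (hJ' a), by simp [h0], fun j hj => ?_⟩
    rcases Finset.mem_insert.1 hj with rfl | hj
    · exact ⟨biprod.snd, biprod.inr, biprod.inr_snd⟩
    · obtain ⟨q, i, hqi⟩ := h j hj
      exact ⟨biprod.fst ≫ q, i ≫ biprod.inl, by simp [hqi]⟩

end Groth.Agent.ResExtend
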