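import Groth.Agent.ResExtend.Product
import Groth.Agent.ModDesc.LocFreeDesc
import Groth.Agent.ModDesc.Descent
import Groth.Agent.ModDesc.Func

/-!
Nonvanishing loci of cosections; the resolution property along limits with affine transition maps.
-/

set_option autoImplicit false
set_option backward.isDefEq.respectTransparency false
set_option linter.style.haveILetI false

universe u

open CategoryTheory CategoryTheory.Limits AlgebraicGeometry TopologicalSpace Opposite
open Groth.Agent.QC (res resO res_res res_self res_smul app_res)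

noncomputable section

namespace Groth.Agent.ResExtend

variable {X : Scheme.{u}}

/-- The nonvanishing locus of a cosection. -/
def nv {A : X.Modules} (σ : A ⟶ Coh.structureModule X) : X.Opens :=
  ⨆ (V : X.Opens) (t : Γ(A, V)), X.basicOpen (sev σ V t)

theorem mem_nv {A : X.Modules} {σ : A ⟶ Coh.structureModule X} {x : X} :
    x ∈ nv σ ↔ ∃ (V : X.Opens) (t : Γ(A, V)), x ∈ X.basicOpen (sev σ V t) := by
  simp [nv, Opens.mem_iSup]

theorem basicOpen_le_nv {A : X.Modules} (σ : A ⟶ Coh.structureModule X) (V : X.Opens) (t : Γ(A, V)) :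
    X.basicOpen (sev σ V t) ≤ nv σ := fun _ hx => mem_nv.2 ⟨V, t, hx⟩

/-- Over an affine open the locus is detected by generators. -/
theorem exists_gen_mem {A : X.Modules} (σ : A ⟶ Coh.structureModule X) (hA : Coh.IsQCoh A) {W : X.Opens}
    (hW : IsAffineOpen W) {T : Set Γ(A, W)} (hT : Submodule.span Γ(X, W) T = ⊤) {x : X} (hx : x ∈ W)
    (hxn : x ∈ nv σ) : ∃ g ∈ T, x ∈ X.basicOpen (sev σ W g) := by
  obtain ⟨V, t, hxt⟩ := mem_nv.1 hxn
  obtain ⟨a, ha, hxa⟩ := hW.exists_basicOpen_le (V := V) ⟨x, X.basicOpen_le _ hxt⟩ hx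
  haveI : A.IsQuasicoherent := hA
  have hmem := QC.mem_span_basicOpen hW a hT (res _ ha t)
  have hx' : x ∈ X.basicOpen (sev σ _ (res _ ha t)) := by
    rw [← sev_res]
    exact (X.basicOpen_res (sev σ V t) (homOfLE ha).op).ge ⟨hxa, hxt⟩
  generalize res A ha t = w at hmem hx'
  induction hmem using Submodule.span_induction with
  | mem z hz =>
    obtain ⟨g, hg, rfl⟩ := hz
    rw [← sev_res] at hx'
    exact ⟨g, hg, ((X.basicOpen_res (sev σ W g) (homOfLE (X.basicOpen_le a)).op).le hx').2⟩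
  | zero => rw [map_zero, Scheme.basicOpen_zero] at hx'; exact hx'.elim
  | add b c _ _ hb hc =>
    rw [map_add] at hx'
    exact ((X.basicOpen_add_le _ _) hx').elim hb hc
  | smul c b _ hb =>
    rw [map_smul, smul_eq_mul, Scheme.basicOpen_mul] at hx'
    exact hb hx'.2

/-- The nonvanishing locus is quasi-compact. -/
theorem isCompact_nv [CompactSpace X] {A : X.Modules} (σ : A ⟶ Coh.structureModule X) (hA : Coh.IsQCoh A)
    (hA' : CohB1.IsFT A) : IsCompact (nv σ : Set X) := by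
  classical
  haveI : A.IsQuasicoherent := hA
  obtain ⟨ι, hι, W, hW, -, hcov⟩ := QC.exists_finite_affine_cover (X := X) (W := ⊤) isCompact_univ
  have hfin := fun i => (QC.isFT_iff_finite_sections (M := A)).mp hA' ⟨W i, hW i⟩
  choose T hT using fun i => (hfin i).fg_top
  have e : (nv σ : Set X) = ⋃ i, ⋃ g ∈ T i, (X.basicOpen (sev σ (W i) g) : Set X) := by
    refine Set.ext fun x => ⟨fun hx => ?_, fun hx => ?_⟩
    · obtain ⟨i, hi⟩ := hcov x trivial
      obtain ⟨g, hg, hxg⟩ := exists_gen_mem σ hA (hW i) (hT i) hi hx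
      exact Set.mem_iUnion.2 ⟨i, Set.mem_iUnion₂.2 ⟨g, hg, hxg⟩⟩
    · obtain ⟨i, hx⟩ := Set.mem_iUnion.1 hx
      obtain ⟨g, -, hxg⟩ := Set.mem_iUnion₂.1 hx
      exact basicOpen_le_nv σ _ g hxg
  rw [e]
  exact isCompact_iUnion fun i => (T i).isCompact_biUnion fun g _ => ((hW i).basicOpen _).isCompact

/-- The nonvanishing locus of a pullback. -/
theorem nv_pullσ {Z : Scheme.{u}} (p : Z ⟶ X) {A : X.Modules} (hA : Coh.IsQCoh A) (σ : A ⟶ Coh.structureModule X) :
    nv (pullσ p σ) = p ⁻¹ᵁ nv σ := by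
  haveI : A.IsQuasicoherent := hA
  refine le_antisymm (fun x hx => ?_) (fun x hx => ?_)
  · obtain ⟨V, hV, hxV, -⟩ := exists_isAffineOpen_mem_and_subset (X := X) (x := p x) (U := ⊤) trivial
    obtain ⟨W, hW, hxW, hWV⟩ := exists_isAffineOpen_mem_and_subset (show x ∈ p ⁻¹ᵁ V from hxV)
    have e : W ≤ p ⁻¹ᵁ V := hWV
    have hspan : Submodule.span Γ(Z, W) (Set.range (ModDesc.pullSectLE p A V W e)) = ⊤ := by
      letI : Algebra Γ(X, V) Γ(Z, W) := (p.appLE V W e).hom.toAlgebra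
      obtain ⟨Φ, hΦ⟩ := ModDesc.exists_bijective_liftBaseChange p A hV hW e
      refine Submodule.eq_top_iff'.2 fun z => ?_
      obtain ⟨w, rfl⟩ := Φ.surjective z
      induction w using TensorProduct.induction_on with
      | zero => rw [map_zero]; exact Submodule.zero_mem _
      | add a b ha hb => rw [map_add]; exact Submodule.add_mem _ ha hb
      | tmul c s =>
        rw [show c ⊗ₜ[Γ(X, V)] s = c • ((1 : Γ(Z, W)) ⊗ₜ[Γ(X, V)] s) by
          rw [TensorProduct.smul_tmul', smul_eq_mul, mul_one], map_smul, hΦ]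
        exact Submodule.smul_mem _ _ (Submodule.subset_span ⟨s, rfl⟩)
    obtain ⟨_, ⟨s, rfl⟩, hxs⟩ := exists_gen_mem (pullσ p σ) (QC.isQCoh_pullback p hA) hW hspan hxW hx
    rw [pullσ_value] at hxs
    exact basicOpen_appLE_le p e _ (basicOpen_le_nv σ V s) hxs
  · obtain ⟨V, t, hxt⟩ := mem_nv.1 hx
    refine mem_nv.2 ⟨p ⁻¹ᵁ V, ModDesc.pullSectLE p A V _ le_rfl t, ?_⟩
    rw [pullσ_value, ← Scheme.Hom.app_eq_appLE]
    exact (Scheme.preimage_basicOpen p (sev σ V t)).le hxt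

theorem nv_precomp {A B : X.Modules} (e : A ≅ B) (σ : B ⟶ Coh.structureModule X) : nv (e.hom ≫ σ) = nv σ := by
  refine le_antisymm (fun x hx => ?_) (fun x hx => ?_) <;> obtain ⟨V, t, hxt⟩ := mem_nv.1 hx
  · exact basicOpen_le_nv σ V (e.hom.app V t) hxt
  · refine basicOpen_le_nv (e.hom ≫ σ) V (e.inv.app V t) ?_
    have h : (e.inv ≫ e.hom ≫ σ : B ⟶ _) = σ := e.inv_hom_id_assoc σ
    change x ∈ X.basicOpen (sev (e.inv ≫ e.hom ≫ σ) V t)
    rwa [h]

theorem nv_comp_le {A : X.Modules} (σ : A ⟶ Coh.structureModule X) (θ : Coh.structureModule X ⟶ Coh.structureModule X) :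
    nv (σ ≫ θ) ≤ nv σ := fun x hx => by
  obtain ⟨V, t, hxt⟩ := mem_nv.1 hx
  refine basicOpen_le_nv σ V t ?_
  have h : sev (σ ≫ θ) V t = sev σ V t * sev θ V (1 : Γ(X, V)) := by
    change sev θ V (sev σ V t) = _
    rw [← smul_eq_mul, ← map_smul, smul_eq_mul, mul_one]
  rw [h, Scheme.basicOpen_mul] at hxt
  exact hxt.1

theorem nv_postcomp {A : X.Modules} (σ : A ⟶ Coh.structureModule X)
    (θ : Coh.structureModule X ≅ Coh.structureModule X) : nv (σ ≫ θ.hom) = nv σ := by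
  refine le_antisymm (nv_comp_le σ θ.hom) ?_
  have h := nv_comp_le (σ ≫ θ.hom) θ.inv
  rwa [Category.assoc, θ.hom_inv_id, Category.comp_id] at h

theorem nv_le_iff {A : X.Modules} (σ : A ⟶ Coh.structureModule X) (U : X.Opens) :
    nv σ ≤ U ↔ ∀ (V : X.Opens) (t : Γ(A, V)), X.basicOpen (sev σ V t) ≤ U := by
  refine ⟨fun h V t => (basicOpen_le_nv σ V t).trans h, fun h x hx => ?_⟩
  obtain ⟨V, t, hxt⟩ := mem_nv.1 hx
  exact h V t hxt

/-- A cosection nowhere vanishing on an affine open attains one. -/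
theorem exists_sev_eq_one {A : X.Modules} (σ : A ⟶ Coh.structureModule X) (hA : Coh.IsQCoh A) {U : X.Opens}
    (hU : IsAffineOpen U) (h : U ≤ nv σ) : ∃ e, sev σ U e = 1 := by
  have htop : Ideal.span (Set.range (sev σ U)) = ⊤ := by
    rw [← IsAffineOpen.self_le_iSup_basicOpen_iff hU]
    intro x hx
    obtain ⟨g, -, hxg⟩ := exists_gen_mem σ hA hU (T := Set.univ) Submodule.span_univ hx (h hx)
    exact Opens.mem_iSup.2 ⟨⟨_, ⟨g, rfl⟩⟩, hxg⟩
  have h1 : (1 : Γ(X, U)) ∈ LinearMap.range (sev σ U) := by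
    have e : Ideal.span (Set.range (sev σ U)) = LinearMap.range (sev σ U) := by
      rw [← LinearMap.coe_range]
      exact Submodule.span_eq _
    rw [← e, htop]
    trivial
  exact h1

variable {I : Type u} [SmallCategory I] [IsCofiltered I] (D : I ⥤ Scheme.{u}) (c : Cone D) (hc : IsLimit c)
  [∀ {i j : I} (f : i ⟶ j), IsAffineHom (D.map f)] [∀ i, CompactSpace ↥(D.obj i)]
  [∀ i, QuasiSeparatedSpace ↥(D.obj i)]

include hc in
/-- A cosection on the limit with given nonvanishing locus comes from a stage. -/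
theorem exists_stage_cosection {i : I} {U : (D.obj i).Opens} (hU : IsAffineOpen U) {E : c.pt.Modules}
    (hE : FlatMod.IsFinLocFree E) (σ : E ⟶ Coh.structureModule c.pt) (hσ : nv σ = c.π.app i ⁻¹ᵁ U) :
    ∃ (k : I) (a : k ⟶ i) (G : (D.obj k).Modules) (τ : G ⟶ Coh.structureModule (D.obj k)),
      FlatMod.IsFinLocFree G ∧ nv τ = D.map a ⁻¹ᵁ U := by
  haveI : Coh.IsQCoh E := LocFree.isQCoh_of_isFinLocFree hE
  obtain ⟨i₁, a₁, G₁, hG₁q, hG₁, ⟨e⟩⟩ := ModDesc.exists_descend (D := D) (c := c) (F := E) (i₀ := i) hc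
    (LocFree.isFP_of_isFinLocFree hE)
  haveI : Coh.IsQCoh G₁ := hG₁q
  haveI : Coh.IsQCoh (Coh.structureModule (D.obj i₁)) := QC.isQCoh_unit _
  let S := PicLoc.pullbackStructureIso (c.π.app i₁)
  obtain ⟨i₂, a₂, hj, hhj⟩ := ModDesc.exists_bc_eq_hom D c hc (Coh.structureModule (D.obj i₁)) hG₁
    (e.hom ≫ σ ≫ S.inv)
  let T := PicLoc.pullbackStructureIso (D.map a₂)
  let τ := hj ≫ T.hom
  have hGv : FlatMod.IsFinLocFree ((Scheme.Modules.pullback (c.π.app i₁)).obj G₁) :=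
    DQCoh.isFinLocFree_of_iso' e.symm hE
  -- the nonvanishing locus on the limit
  let q := c.π.app i₂
  have hq : nv (pullσ q τ) = nv σ := by
    let w := c.w a₂
    let α := (ModDesc.trIso q (D.map a₂) w).app G₁
    let β := (ModDesc.trIso q (D.map a₂) w).app (Coh.structureModule (D.obj i₁))
    have h1 : (Scheme.Modules.pullback q).map hj = α.hom ≫ (e.hom ≫ σ ≫ S.inv) ≫ β.inv := by
      rw [← hhj]
      change _ = α.hom ≫ (α.inv ≫ (Scheme.Modules.pullback q).map hj ≫ β.hom) ≫ β.inv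
      simp
    have h2 : pullσ q τ = (α ≪≫ e).hom ≫ σ ≫
        (S.symm ≪≫ β.symm ≪≫ (Scheme.Modules.pullback q).mapIso T ≪≫ PicLoc.pullbackStructureIso q).hom := by
      simp only [pullσ, τ, Functor.map_comp, h1, Iso.trans_hom, Iso.symm_hom, Functor.mapIso_hom, Category.assoc]
    rw [h2, nv_precomp, nv_postcomp]
  have hτq : Coh.IsQCoh ((Scheme.Modules.pullback (D.map a₂)).obj G₁) := QC.isQCoh_pullback _ hG₁q
  have hpre : q ⁻¹ᵁ nv τ = q ⁻¹ᵁ (D.map (a₂ ≫ a₁) ⁻¹ᵁ U) := by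
    rw [← nv_pullσ q hτq τ, hq, hσ, ← c.w (a₂ ≫ a₁)]
    rfl
  obtain ⟨i₃, a₃, hGf⟩ := ModDesc.exists_isFinLocFree_stage D c hc (i₀ := i₁) hG₁ hGv
  have hτT : CohB1.IsFT ((Scheme.Modules.pullback (D.map a₂)).obj G₁) :=
    isFT_of_fp hτq (ModDesc.isFP_pullback _ hG₁q hG₁)
  obtain ⟨i₄, a₄, h4⟩ := exists_map_preimage_eq_map_preimage D c hc (isCompact_nv τ hτq hτT)
    (QuasiCompact.isCompact_preimage (f := D.map (a₂ ≫ a₁)) _ U.2 hU.isCompact) hpre
  obtain ⟨k, b₄, b₃, hb⟩ := IsCofiltered.cospan (a₄ ≫ a₂) a₃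
  let G := (Scheme.Modules.pullback (D.map b₄)).obj ((Scheme.Modules.pullback (D.map a₄)).obj
    ((Scheme.Modules.pullback (D.map a₂)).obj G₁))
  refine ⟨k, (b₄ ≫ a₄ ≫ a₂) ≫ a₁, G, pullσ (D.map b₄) (pullσ (D.map a₄) τ), ?_, ?_⟩
  · refine DQCoh.isFinLocFree_of_iso' ?_ (DerPerf.isFinLocFree_pullback (D.map b₃) hGf)
    exact (ModDesc.trIso (D.map b₃) (D.map a₃) (D.map_comp b₃ a₃).symm).app G₁ ≪≫
      ((Scheme.Modules.pullbackCongr (congrArg D.map hb.symm)).app G₁) ≪≫
      ((ModDesc.trIso (D.map b₄) (D.map (a₄ ≫ a₂)) (D.map_comp b₄ (a₄ ≫ a₂)).symm).app G₁).symm ≪≫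
      (Scheme.Modules.pullback (D.map b₄)).mapIso
        ((ModDesc.trIso (D.map a₄) (D.map a₂) (D.map_comp a₄ a₂).symm).app G₁).symm
  · rw [nv_pullσ _ (QC.isQCoh_pullback _ hτq), nv_pullσ _ hτq, h4]
    simp only [D.map_comp, Scheme.Hom.comp_preimage]

include hc in
/-- **The resolution property descends to a stage.** -/
theorem exists_stage_resolutionProperty (h : PerfAux.HasResolutionProperty c.pt) :
    ∃ i : I, PerfAux.HasResolutionProperty (D.obj i) := by
  classical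
  obtain ⟨i⟩ : Nonempty I := IsCofiltered.nonempty
  haveI := isAffineHom_π_app D c hc i
  haveI : CompactSpace c.pt := QuasiCompact.compactSpace_of_compactSpace (c.π.app i)
  haveI : QuasiSeparatedSpace c.pt := quasiSeparatedSpace_of_quasiSeparated (c.π.app i)
  obtain ⟨ι, _, U, hU, -, hcov⟩ := QC.exists_finite_affine_cover (X := D.obj i) (W := ⊤) isCompact_univ
  obtain ⟨k, a, hk⟩ := ModDesc.exists_later (Finset.univ : Finset ι) (fun x k a =>
      ∃ (G : (D.obj k).Modules) (τ : G ⟶ Coh.structureModule (D.obj k)),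
        FlatMod.IsFinLocFree G ∧ nv τ = D.map a ⁻¹ᵁ U x)
    (fun x k a l b => by
      rintro ⟨G, τ, hG, hτ⟩
      refine ⟨_, pullσ (D.map b) τ, DerPerf.isFinLocFree_pullback _ hG, ?_⟩
      rw [nv_pullσ _ (LocFree.isQCoh_of_isFinLocFree hG), hτ, D.map_comp, Scheme.Hom.comp_preimage])
    (fun x _ => by
      obtain ⟨E, σ, hE, hD, e, he⟩ := exists_vb_cosection h ((hU x).preimage (c.π.app i))
      refine exists_stage_cosection D c hc (hU x) hE σ (le_antisymm ((nv_le_iff σ _).2 hD) fun y hy => ?_)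
      refine basicOpen_le_nv σ _ e ?_
      rw [he, Scheme.basicOpen_of_isUnit c.pt isUnit_one]
      exact hy)
  choose G τ hG hτ using fun x => hk x (Finset.mem_univ x)
  let e := (Fintype.equivFin ι).symm
  refine ⟨k, hasResolutionProperty_of_cosections (fun x => D.map a ⁻¹ᵁ U (e x)) (fun x => (hU _).preimage _)
    (fun y => ?_) (fun x => G (e x)) (fun x => hG _) (fun x => τ (e x))
    (fun x => (nv_le_iff _ _).1 (hτ (e x)).le)
    (fun x => exists_sev_eq_one _ (LocFree.isQCoh_of_isFinLocFree (hG _)) ((hU _).preimage _) (hτ (e x)).ge)⟩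
  obtain ⟨x, hx⟩ := hcov (D.map a y) trivial
  exact ⟨e.symm x, by rwa [Equiv.apply_symm_apply]⟩

end Groth.Agent.ResExtend
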