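import Groth.Agent.ResExtend.Generator
import Groth.Agent.KunnAD.ExtPair
import Groth.Agent.TMul.Pullback
import Groth.Agent.PBundle.FrameTools
import Groth.Agent.DerPerf.Local
import Groth.Agent.DQCoh.AffinePerf

/-!
Surjections from external tensor products of vector bundles.
-/

set_option autoImplicit false
set_option backward.isDefEq.respectTransparency false
set_option linter.style.haveILetI false

universe u

open CategoryTheory CategoryTheory.Limits AlgebraicGeometry TopologicalSpace Opposite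
open Groth.Agent.QC (res resO res_res res_self res_smul app_res)

noncomputable section

namespace Groth.Agent.ResExtend

/-- A vector bundle with a cosection cutting out an affine open. -/
theorem exists_vb_cosection {X : Scheme.{u}} [CompactSpace X] [QuasiSeparatedSpace X]
    (hX : PerfAux.HasResolutionProperty X) {U : X.Opens} (hU : IsAffineOpen U) :
    ∃ (E : X.Modules) (σ : E ⟶ Coh.structureModule X), FlatMod.IsFinLocFree E ∧
      (∀ (V : X.Opens) (t : Γ(E, V)), X.basicOpen (sev σ V t) ≤ U) ∧ ∃ e, sev σ U e = 1 := by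
  obtain ⟨P, τ, hP, hP', hD, e, he⟩ := exists_fp_cosection (X := X) hU
  obtain ⟨E, π, hE, hπ⟩ := hX P hP (isFT_of_fp hP hP')
  obtain ⟨e', he'⟩ := QC.app_surjective_of_epi hU (LocFree.isQCoh_of_isFinLocFree hE) hP π e
  exact ⟨E, π ≫ τ, hE, fun V t => hD V (π.app V t), e', (congrArg (sev τ U) he').trans he⟩

section Pullback

variable {Z X : Scheme.{u}} (p : Z ⟶ X) {A : X.Modules} (σ : A ⟶ Coh.structureModule X)

/-- pulled back cosection -/
def pullσ : (Scheme.Modules.pullback p).obj A ⟶ Coh.structureModule Z :=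
  (Scheme.Modules.pullback p).map σ ≫ (PicLoc.pullbackStructureIso p).hom

theorem pullσ_value {V : X.Opens} {W : Z.Opens} (e : W ≤ p ⁻¹ᵁ V) (s : Γ(A, V)) :
    sev (pullσ p σ) W (ModDesc.pullSectLE p A V W e s) = (p.appLE V W e).hom (sev σ V s) := by
  change (PicLoc.pullbackStructureIso p).hom.app W
    (((Scheme.Modules.pullback p).map σ).app W (ModDesc.pullSectLE p A V W e s)) = _
  rw [ModDesc.app_pullSectLE, ModDesc.pullSectLE_apply, ← app_res]
  refine (congrArg (res (Coh.structureModule Z) e)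
    (PBundle.pullbackStructureIso_pullSect p (sev σ V s))).trans ?_
  rfl

theorem basicOpen_appLE_le {V U : X.Opens} {W : Z.Opens} (e : W ≤ p ⁻¹ᵁ V) (r : Γ(X, V))
    (h : X.basicOpen r ≤ U) : Z.basicOpen ((p.appLE V W e).hom r) ≤ p ⁻¹ᵁ U := by
  refine le_trans ?_ (p.preimage_mono h)
  rw [Scheme.preimage_basicOpen]
  exact (Z.basicOpen_res (p.app V r) (homOfLE e).op).trans_le inf_le_right

end Pullback

section Prod

variable {R : Type u} [CommRing R] {X Y Z : Scheme.{u}} [X.Over (Spec (CommRingCat.of R))]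
  [Y.Over (Spec (CommRingCat.of R))] [Z.Over (Spec (CommRingCat.of R))] (p : Z ⟶ X) (q : Z ⟶ Y)
  {A : X.Modules} {B : Y.Modules} (σ : A ⟶ Coh.structureModule X) (τ : B ⟶ Coh.structureModule Y)

/-- external product of cosections -/
def boxσ : CohB1.tensorMod ((Scheme.Modules.pullback p).obj A) ((Scheme.Modules.pullback q).obj B) ⟶
    Coh.structureModule Z :=
  ((KFlat.schB Z).map (pullσ p σ)).app ((Scheme.Modules.pullback q).obj B) ≫
    ((KFlat.schB Z).obj (Coh.structureModule Z)).map (pullσ q τ) ≫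
      (SecTwist.unitorR (Coh.structureModule Z)).hom

omit [X.Over (Spec (CommRingCat.of R))] [Y.Over (Spec (CommRingCat.of R))] [Z.Over (Spec (CommRingCat.of R))] in
theorem boxσ_tm {W : Z.Opens} (a : Γ((Scheme.Modules.pullback p).obj A, W))
    (b : Γ((Scheme.Modules.pullback q).obj B, W)) :
    sev (boxσ p q σ τ) W (TMul.tm a b) = sev (pullσ q τ) W b * sev (pullσ p σ) W a := by
  change (SecTwist.unitorR (Coh.structureModule Z)).hom.app W
    ((((KFlat.schB Z).obj (Coh.structureModule Z)).map (pullσ q τ)).app W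
      ((((KFlat.schB Z).map (pullσ p σ)).app _).app W (TMul.tm a b))) = _
  refine (congrArg (fun z => (SecTwist.unitorR (Coh.structureModule Z)).hom.app W
    ((((KFlat.schB Z).obj (Coh.structureModule Z)).map (pullσ q τ)).app W z))
      (TorBC.tm_map_left (pullσ p σ) a b)).trans ?_
  refine (congrArg (fun z => (SecTwist.unitorR (Coh.structureModule Z)).hom.app W z)
    (TorBC.tm_map_right (pullσ q τ) ((pullσ p σ).app W a) b)).trans ?_
  exact ResDesc.unitorR_tm (Coh.structureModule Z) ((pullσ p σ).app W a) (sev (pullσ q τ) W b)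

variable (hp : p ≫ (X ↘ Spec (CommRingCat.of R)) = Z ↘ Spec (CommRingCat.of R))
  (hq : q ≫ (Y ↘ Spec (CommRingCat.of R)) = Z ↘ Spec (CommRingCat.of R))
  (sq : IsPullback p q (X ↘ Spec (CommRingCat.of R)) (Y ↘ Spec (CommRingCat.of R)))
include hp hq sq

theorem boxσ_basicOpen (hA : Coh.IsQCoh A) (hB : Coh.IsQCoh B) {U : X.Opens} {V : Y.Opens}
    (hσ : ∀ (W : X.Opens) (t : Γ(A, W)), X.basicOpen (sev σ W t) ≤ U)
    (hτ : ∀ (W : Y.Opens) (t : Γ(B, W)), Y.basicOpen (sev τ W t) ≤ V) (O : Z.Opens)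
    (t : Γ(CohB1.tensorMod ((Scheme.Modules.pullback p).obj A) ((Scheme.Modules.pullback q).obj B), O)) :
    Z.basicOpen (sev (boxσ p q σ τ) O t) ≤ p ⁻¹ᵁ U ⊓ q ⁻¹ᵁ V := by
  intro x hx
  obtain ⟨V₁, hV₁, hxV₁, -⟩ := exists_isAffineOpen_mem_and_subset (X := X) (x := p x) (U := ⊤) trivial
  obtain ⟨V₂, hV₂, hxV₂, -⟩ := exists_isAffineOpen_mem_and_subset (X := Y) (x := q x) (U := ⊤) trivial
  let W := p ⁻¹ᵁ V₁ ⊓ q ⁻¹ᵁ V₂
  have hW : IsAffineOpen W := KunnAD.isAffineOpen_prod p q sq hV₁ hV₂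
  obtain ⟨a, ha, hxa⟩ := hW.exists_basicOpen_le (V := O) ⟨x, Z.basicOpen_le _ hx⟩ ⟨hxV₁, hxV₂⟩
  have hpure : Submodule.span Γ(Z, W) {z | ∃ (s : Γ(A, V₁)) (r : Γ(B, V₂)),
      z = TMul.tm (ModDesc.pullSectLE p A V₁ W inf_le_left s) (ModDesc.pullSectLE q B V₂ W inf_le_right r)} = ⊤ := by
    haveI := KunnAD.isIso_pairE p q hp hq sq hV₁ hV₂ hA hB
    refine Submodule.eq_top_iff'.2 fun z => ?_
    obtain ⟨w, rfl⟩ := (ConcreteCategory.bijective_of_isIso
      (KunnAD.pairE p q hp hq (inf_le_left : W ≤ p ⁻¹ᵁ V₁) inf_le_right A B)).2 z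
    induction w using TensorProduct.induction_on with
    | zero =>
      rw [map_zero]
      exact Submodule.zero_mem _
    | add b c hb hc =>
      rw [map_add]
      exact Submodule.add_mem _ hb hc
    | tmul s r => exact Submodule.subset_span ⟨s, r, KunnAD.pairE_tmul p q hp hq _ _ A B s r⟩
  haveI : (CohB1.tensorMod ((Scheme.Modules.pullback p).obj A) ((Scheme.Modules.pullback q).obj B)).IsQuasicoherent :=
    DQCoh.isQCoh_tensor (QC.isQCoh_pullback p hA) (QC.isQCoh_pullback q hB)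
  have hmem := QC.mem_span_basicOpen hW a hpure (res _ ha t)
  have hx' : x ∈ Z.basicOpen (sev (boxσ p q σ τ) _ (res _ ha t)) := by
    rw [← sev_res]
    exact (Z.basicOpen_res (sev (boxσ p q σ τ) O t) (homOfLE ha).op).ge ⟨hxa, hx⟩
  generalize res (CohB1.tensorMod ((Scheme.Modules.pullback p).obj A) ((Scheme.Modules.pullback q).obj B)) ha t = w
    at hmem hx'
  induction hmem using Submodule.span_induction with
  | mem z hz =>
    obtain ⟨_, ⟨s, r, rfl⟩, rfl⟩ := hz
    rw [← sev_res] at hx'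
    have hx2 := ((Z.basicOpen_res (sev (boxσ p q σ τ) W _) (homOfLE (Z.basicOpen_le a)).op).le hx').2
    rw [boxσ_tm, pullσ_value, pullσ_value, Scheme.basicOpen_mul] at hx2
    exact ⟨basicOpen_appLE_le p _ _ (hσ V₁ s) hx2.2, basicOpen_appLE_le q _ _ (hτ V₂ r) hx2.1⟩
  | zero => rw [map_zero, Scheme.basicOpen_zero] at hx'; exact hx'.elim
  | add b c _ _ hb hc =>
    rw [map_add] at hx'
    exact ((Z.basicOpen_add_le _ _) hx').elim hb hc
  | smul c b _ hb =>
    rw [map_smul, smul_eq_mul, Scheme.basicOpen_mul] at hx'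
    exact hb hx'.2

omit hp hq sq [X.Over (Spec (CommRingCat.of R))] [Y.Over (Spec (CommRingCat.of R))] [Z.Over (Spec (CommRingCat.of R))] in
theorem boxσ_one {U : X.Opens} {V : Y.Opens} (hσ : ∃ e, sev σ U e = 1) (hτ : ∃ e, sev τ V e = 1) :
    ∃ e, sev (boxσ p q σ τ) (p ⁻¹ᵁ U ⊓ q ⁻¹ᵁ V) e = 1 := by
  obtain ⟨e, he⟩ := hσ
  obtain ⟨g, hg⟩ := hτ
  refine ⟨TMul.tm (ModDesc.pullSectLE p A U _ inf_le_left e) (ModDesc.pullSectLE q B V _ inf_le_right g), ?_⟩
  rw [boxσ_tm, pullσ_value, pullσ_value, he, hg, map_one, map_one, one_mul]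

end Prod

/-- **Surjections from external products of vector bundles.** -/
theorem exists_box_surjection {R : Type u} [CommRing R] {X Y Z : Scheme.{u}} [X.Over (Spec (CommRingCat.of R))]
    [Y.Over (Spec (CommRingCat.of R))] [Z.Over (Spec (CommRingCat.of R))] (p : Z ⟶ X) (q : Z ⟶ Y)
    (hp : p ≫ (X ↘ Spec (CommRingCat.of R)) = Z ↘ Spec (CommRingCat.of R))
    (hq : q ≫ (Y ↘ Spec (CommRingCat.of R)) = Z ↘ Spec (CommRingCat.of R))
    (sq : IsPullback p q (X ↘ Spec (CommRingCat.of R)) (Y ↘ Spec (CommRingCat.of R)))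
    [CompactSpace X] [QuasiSeparatedSpace X] [CompactSpace Y] [QuasiSeparatedSpace Y]
    [CompactSpace Z] [QuasiSeparatedSpace Z] (hX : PerfAux.HasResolutionProperty X)
    (hY : PerfAux.HasResolutionProperty Y) (F : Z.Modules) (hF : Coh.IsQCoh F) (hF' : CohB1.IsFT F) :
    ∃ (E : X.Modules) (G : Y.Modules), FlatMod.IsFinLocFree E ∧ FlatMod.IsFinLocFree G ∧
      ∃ π : CohB1.tensorMod ((Scheme.Modules.pullback p).obj E) ((Scheme.Modules.pullback q).obj G) ⟶ F, Epi π := by
  classical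
  obtain ⟨α, _, U, hU, -, hUc⟩ := QC.exists_finite_affine_cover (X := X) (W := ⊤) isCompact_univ
  obtain ⟨β, _, V, hV, -, hVc⟩ := QC.exists_finite_affine_cover (X := Y) (W := ⊤) isCompact_univ
  choose E σ hE hσ hσ1 using fun a => exists_vb_cosection hX (hU a)
  choose G τ hG hτ hτ1 using fun b => exists_vb_cosection hY (hV b)
  have hqE : ∀ a, Coh.IsQCoh (E a) := fun a => LocFree.isQCoh_of_isFinLocFree (hE a)
  have hqG : ∀ b, Coh.IsQCoh (G b) := fun b => LocFree.isQCoh_of_isFinLocFree (hG b)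
  let W : α × β → Z.Opens := fun c => p ⁻¹ᵁ U c.1 ⊓ q ⁻¹ᵁ V c.2
  have hJ : ∀ c : α × β, FlatMod.IsFinLocFree
      (CohB1.tensorMod ((Scheme.Modules.pullback p).obj (E c.1)) ((Scheme.Modules.pullback q).obj (G c.2))) :=
    fun c => ResDesc.isFinLocFree_tensorMod (DerPerf.isFinLocFree_pullback p (hE c.1))
      (DerPerf.isFinLocFree_pullback q (hG c.2))
  choose N k hN using fun c : α × β => exists_gen_maps (boxσ p q (σ c.1) (τ c.2))
    (LocFree.isQCoh_of_isFinLocFree (hJ c)) (LocFree.isFP_of_isFinLocFree (hJ c))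
    (KunnAD.isAffineOpen_prod p q sq (hU c.1) (hV c.2))
    (boxσ_basicOpen p q (σ c.1) (τ c.2) hp hq sq (hqE c.1) (hqG c.2) (hσ c.1) (hτ c.2))
    (boxσ_one p q (σ c.1) (τ c.2) (hσ1 c.1) (hτ1 c.2)) F hF hF'
  let n := Finset.univ.sup N
  choose φ hφ using fun c => hN c n (Finset.le_sup (Finset.mem_univ c))
  let K := Finset.univ.sup k
  -- the comparison isomorphisms
  have he : ∀ c : α × β, Nonempty (CohB1.tensorMod ((Scheme.Modules.pullback p).obj (CohB1.tensorPow (E c.1) n))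
        ((Scheme.Modules.pullback q).obj (CohB1.tensorPow (G c.2) n)) ≅
      CohB1.tensorPow (CohB1.tensorMod ((Scheme.Modules.pullback p).obj (E c.1))
        ((Scheme.Modules.pullback q).obj (G c.2))) n) := fun c => by
    obtain ⟨i⟩ := TMul.nonempty_powTensorIso ((Scheme.Modules.pullback p).obj (E c.1))
      ((Scheme.Modules.pullback q).obj (G c.2)) n
    obtain ⟨j⟩ := TMul.nonempty_pullPowIso p (E c.1) n
    obtain ⟨l⟩ := TMul.nonempty_pullPowIso q (G c.2) n
    exact ⟨PicGrp.tensorModIso j.symm l.symm ≪≫ i.symm⟩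
  -- indices in `Type`
  let a₀ := (Fintype.equivFin α).symm
  let b₀ := (Fintype.equivFin β).symm
  let fE : Fin (Fintype.card α) × Fin K → X.Modules := fun i => CohB1.tensorPow (E (a₀ i.1)) n
  let fG : Fin (Fintype.card β) → Y.Modules := fun j => CohB1.tensorPow (G (b₀ j)) n
  let ψ : ∀ (i : Fin (Fintype.card α) × Fin K) (j : Fin (Fintype.card β)),
      CohB1.tensorMod ((Scheme.Modules.pullback p).obj (fE i)) ((Scheme.Modules.pullback q).obj (fG j)) ⟶ F :=
    fun i j => if h : (i.2 : ℕ) < k (a₀ i.1, b₀ j) then (he (a₀ i.1, b₀ j)).some.hom ≫ φ _ ⟨i.2, h⟩ else 0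
  let P := Scheme.Modules.pullback p
  let Q := Scheme.Modules.pullback q
  let pr : ∀ i j, CohB1.tensorMod (P.obj (⨁ fE)) (Q.obj (⨁ fG)) ⟶ CohB1.tensorMod (P.obj (fE i)) (Q.obj (fG j)) :=
    fun i j => ((KFlat.schB Z).map (P.map (biproduct.π fE i))).app _ ≫
      ((KFlat.schB Z).obj _).map (Q.map (biproduct.π fG j))
  let π : CohB1.tensorMod (P.obj (⨁ fE)) (Q.obj (⨁ fG)) ⟶ F := ∑ i, ∑ j, pr i j ≫ ψ i j
  refine ⟨⨁ fE, ⨁ fG, ?_, ?_, π, ?_⟩
  · exact DQCoh.isFinLocFree_of_iso' (biproduct.isoCoproduct fE).symm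
      (DerPerf.isFinLocFree_of_isColimit Finset.univ (coproductIsCoproduct fE)
        (fun i h => absurd (Finset.mem_univ i) h) (fun i _ => isFinLocFree_tensorPow (hE _) _))
  · exact DQCoh.isFinLocFree_of_iso' (biproduct.isoCoproduct fG).symm
      (DerPerf.isFinLocFree_of_isColimit Finset.univ (coproductIsCoproduct fG)
        (fun i h => absurd (Finset.mem_univ i) h) (fun i _ => isFinLocFree_tensorPow (hG _) _))
  refine Preadditive.epi_of_cancel_zero _ fun {M} g hg => ?_
  have hψ : ∀ i j, ψ i j ≫ g = 0 := by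
    intro i j
    let ι : CohB1.tensorMod (P.obj (fE i)) (Q.obj (fG j)) ⟶ CohB1.tensorMod (P.obj (⨁ fE)) (Q.obj (⨁ fG)) :=
      ((KFlat.schB Z).map (P.map (biproduct.ι fE i))).app _ ≫ ((KFlat.schB Z).obj _).map (Q.map (biproduct.ι fG j))
    have hcomp : ∀ i' j', ι ≫ pr i' j' = ((KFlat.schB Z).map (P.map (biproduct.ι fE i ≫ biproduct.π fE i'))).app _ ≫
        ((KFlat.schB Z).obj _).map (Q.map (biproduct.ι fG j ≫ biproduct.π fG j')) := by
      intro i' j'
      simp only [ι, pr, Functor.map_comp, NatTrans.comp_app, Category.assoc, NatTrans.naturality_assoc]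
    have hι : ι ≫ π = ψ i j := by
      simp only [π, Preadditive.comp_sum]
      rw [Finset.sum_eq_single i, Finset.sum_eq_single j]
      · rw [← Category.assoc, hcomp, biproduct.ι_π_self, biproduct.ι_π_self]
        simp
        exact Category.id_comp _
      · intro j' _ hj'
        rw [← Category.assoc, hcomp, biproduct.ι_π_ne _ (Ne.symm hj')]
        simp
      · simp
      · intro i' _ hi'
        refine Finset.sum_eq_zero fun j' _ => ?_
        rw [← Category.assoc, hcomp, biproduct.ι_π_ne _ (Ne.symm hi')]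
        simp
      · simp
    rw [← hι, Category.assoc, hg, comp_zero]
  refine ResDesc.cancel_zero_of_span hF W (fun c => KunnAD.isAffineOpen_prod p q sq (hU c.1) (hV c.2))
    (fun x => ⟨((hUc (p x) trivial).choose, (hVc (q x) trivial).choose),
      (hUc (p x) trivial).choose_spec, (hVc (q x) trivial).choose_spec⟩) _ hφ g ?_
  rintro ⟨a, b⟩ t ht
  obtain ⟨i, rfl⟩ := a₀.surjective a
  obtain ⟨j, rfl⟩ := b₀.surjective b
  obtain ⟨l, y, rfl⟩ := Set.mem_iUnion.1 ht
  have hl : (l : ℕ) < K := lt_of_lt_of_le l.2 (Finset.le_sup (Finset.mem_univ (a₀ i, b₀ j)))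
  have h0 : φ (a₀ i, b₀ j) l ≫ g = 0 := by
    have h1 := hψ (i, ⟨l, hl⟩) j
    simp only [ψ] at h1
    rw [dif_pos l.2] at h1
    rw [Category.assoc, ← IsIso.eq_inv_comp, comp_zero] at h1
    exact h1
  exact congrArg (fun θ : CohB1.tensorPow (CohB1.tensorMod ((Scheme.Modules.pullback p).obj (E (a₀ i)))
    ((Scheme.Modules.pullback q).obj (G (b₀ j)))) n ⟶ M => θ.app (W (a₀ i, b₀ j)) y) h0

end Groth.Agent.ResExtend
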